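import Cfsg.Agent.BlkChar.SmallCofactor
import Cfsg.Agent.Lib.CharCore.Eigen
import Cfsg.Agent.Lib.CharCore.Basic
import Cfsg.Agent.Lib.CharClifford.Eigen

/-!
Sums of the squared absolute values of a character over the elements of prime order `q`.

Along a cyclic group of order `q` the values are the transforms of a vector of integral
multiplicities, so the sum is an explicit quadratic form in the multiplicities. Fusion inside
the group makes the multiplicities constant on orbits.
-/

set_option autoImplicit false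

open scoped ComplexConjugate

namespace Cfsg.Agent.TwoBlocks

open Cfsg.Agent.BlkChar.Cofactor (stdChar stdChar_natCast)

variable {q : ℕ} [Fact q.Prime]

/-- The transform of a vector of integers. -/
noncomputable def ft (m : ZMod q → ℤ) (j : ZMod q) : ℂ :=
  ∑ i, (m i : ℂ) * stdChar q (i * j)

theorem sum_stdChar (a : ZMod q) :
    ∑ j : ZMod q, stdChar q (a * j) = if a = 0 then (q : ℂ) else 0 := by
  have hprim : AddChar.IsPrimitive (stdChar q) :=
    AddChar.zmodChar_primitive_of_primitive_root q (Complex.isPrimitiveRoot_exp q (NeZero.ne q))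
  have h := AddChar.sum_mulShift a hprim
  rw [ZMod.card] at h
  simp only [mul_comm a]
  rw [h]
  split_ifs <;> simp

/-- The vector is recovered from its transform. -/
theorem inversion (m : ZMod q → ℤ) (i : ZMod q) :
    ∑ j, ft m j * stdChar q (-(i * j)) = (q : ℂ) * m i := by
  classical
  simp only [ft, Finset.sum_mul]
  rw [Finset.sum_comm, Finset.sum_eq_single i]
  · have h1 : ∀ j : ZMod q, (m i : ℂ) * stdChar q (i * j) * stdChar q (-(i * j)) = m i := by
      intro j
      rw [mul_assoc, ← AddChar.map_add_eq_mul, add_neg_cancel, AddChar.map_zero_eq_one, mul_one]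
    simp only [h1, Finset.sum_const, Finset.card_univ, ZMod.card, nsmul_eq_mul]
  · intro l _ hl
    have h1 : ∀ j : ZMod q, (m l : ℂ) * stdChar q (l * j) * stdChar q (-(i * j)) =
        (m l : ℂ) * stdChar q ((l - i) * j) := by
      intro j
      rw [mul_assoc, ← AddChar.map_add_eq_mul, sub_mul, sub_eq_add_neg]
    simp only [h1]
    rw [← Finset.mul_sum, sum_stdChar, if_neg (sub_ne_zero.2 hl), mul_zero]
  · simp

/-- Parseval. -/
theorem sum_normSq_ft (m : ZMod q → ℤ) :
    ∑ j, ‖ft m j‖ ^ 2 = (q : ℝ) * ∑ i, (m i : ℝ) ^ 2 := by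
  have hconj : ∀ a : ZMod q, conj (stdChar q a) = stdChar q (-a) := fun a =>
    (AddChar.map_neg_eq_conj _ a).symm
  have h : ∑ j, ft m j * conj (ft m j) = ((q : ℂ) * ∑ i, (m i : ℂ) ^ 2) := by
    have h1 : ∀ j, conj (ft m j) = ∑ i, (m i : ℂ) * stdChar q (-(i * j)) := fun j => by
      simp only [ft, map_sum, map_mul, map_intCast, hconj]
    simp only [h1, Finset.mul_sum]
    rw [Finset.sum_comm]
    refine Finset.sum_congr rfl fun i _ => ?_
    calc ∑ j, ft m j * ((m i : ℂ) * stdChar q (-(i * j)))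
        = (m i : ℂ) * ∑ j, ft m j * stdChar q (-(i * j)) := by
          rw [Finset.mul_sum]; exact Finset.sum_congr rfl fun j _ => by ring
      _ = _ := by rw [inversion]; ring
  have h2 : ∀ j, ft m j * conj (ft m j) = ((‖ft m j‖ ^ 2 : ℝ) : ℂ) := fun j => by
    rw [Complex.mul_conj, Complex.normSq_eq_norm_sq]
  simp only [h2] at h
  exact_mod_cast h

/-- A symmetry of the transform is a symmetry of the vector. -/
theorem inv_of_ft_inv (m : ZMod q → ℤ) {k : ZMod q} (hk : k ≠ 0)
    (h : ∀ j, ft m (k * j) = ft m j) (i : ZMod q) : m (k * i) = m i := by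
  have h1 := inversion m (k * i)
  have h2 := inversion m i
  have h3 : ∑ j, ft m j * stdChar q (-(i * j)) = ∑ j, ft m j * stdChar q (-(k * i * j)) := by
    refine (Fintype.sum_equiv (Equiv.mulLeft₀ k hk) _ _ fun j => ?_).symm
    rw [Equiv.mulLeft₀_apply, h]
    congr 2
    ring
  rw [h3, h1] at h2
  exact_mod_cast mul_left_cancel₀ (Nat.cast_ne_zero.2 (Fact.out : q.Prime).ne_zero) h2

variable {G : Type*} [Group G] [Finite G]

omit [Finite G] in
/-- The multiplicities of a character on the powers of an element of order `q`, shifted by an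
integer. -/
theorem exists_mult {χ : G → ℂ} (hχ : Cfsg.IsIrrCharacter G χ) (s : ℤ) {z : G}
    (hz : orderOf z = q) :
    ∃ m : ZMod q → ℤ, ∀ j : ZMod q, ft m j = χ (z ^ j.val) + s := by
  classical
  obtain ⟨r, ρ, -, rfl⟩ := hχ
  obtain ⟨b, μ, hμ, -, hpow⟩ := CharClifford.exists_eigenvalues ρ z
    (Fact.out : q.Prime).ne_zero (hz ▸ pow_orderOf_eq_one z)
  have hjex : ∀ i, ∃ j : ZMod q, stdChar q j = μ i := fun i => by
    obtain ⟨l, -, hl⟩ := (Complex.isPrimitiveRoot_exp q (NeZero.ne q)).eq_pow_of_pow_eq_one (hμ i)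
    exact ⟨(l : ZMod q), by rw [stdChar_natCast]; exact hl⟩
  choose e he using hjex
  refine ⟨fun x => (Finset.univ.filter fun i => e i = x).card + if x = 0 then s else 0,
    fun j => ?_⟩
  rw [ft, hpow]
  simp only [Int.cast_add, Int.cast_natCast, add_mul, Finset.sum_add_distrib]
  congr 1
  · rw [← Finset.sum_fiberwise Finset.univ e (fun i => μ i ^ j.val)]
    refine Finset.sum_congr rfl fun x _ => ?_
    rw [Finset.sum_congr rfl (g := fun _ => stdChar q (x * j)) fun i hi => by
      rw [← he i, (Finset.mem_filter.mp hi).2, ← AddChar.map_nsmul_eq_pow, nsmul_eq_mul,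
        ZMod.natCast_zmod_val, mul_comm], Finset.sum_const, nsmul_eq_mul]
  · rw [Finset.sum_eq_single 0]
    · simp
    · intro x _ hx; simp [hx]
    · simp

omit [Finite G] in
/-- The energy identity for one cyclic group. -/
theorem energy_eq {χ : G → ℂ} (m : ZMod q → ℤ) (s : ℤ) {z : G}
    (hm : ∀ j : ZMod q, ft m j = χ (z ^ j.val) + s) :
    ∑ j ∈ Finset.univ.erase (0 : ZMod q), ‖χ (z ^ j.val) + s‖ ^ 2 =
      (q : ℝ) * ∑ i, (m i : ℝ) ^ 2 - ((∑ i, m i : ℤ) : ℝ) ^ 2 := by
  have h := sum_normSq_ft m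
  rw [← Finset.add_sum_erase _ _ (Finset.mem_univ (0 : ZMod q))] at h
  have h0 : ft m 0 = ((∑ i, m i : ℤ) : ℂ) := by
    simp [ft]
  rw [Finset.sum_congr rfl fun j _ => by rw [← hm j]]
  rw [h0, Complex.norm_intCast, sq_abs] at h
  linarith

theorem val_mul_mod (k : ℕ) (j : ZMod q) : ((k : ZMod q) * j).val = (k * j.val) % q := by
  rw [ZMod.val_mul, ZMod.val_natCast, Nat.mod_mul_mod]

omit [Finite G] in
/-- Fusion: if `z` is conjugate to `z ^ k` the multiplicities are invariant. -/
theorem mult_inv {χ : G → ℂ} (hcl : Cfsg.IsClassFunction G χ) (m : ZMod q → ℤ) (s : ℤ) {z : G}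
    (hz : orderOf z = q) (hm : ∀ j : ZMod q, ft m j = χ (z ^ j.val) + s) {k : ℕ} {h : G}
    (hconj : h * z * h⁻¹ = z ^ k) (i : ZMod q) : m ((k : ZMod q) * i) = m i := by
  rcases eq_or_ne (k : ZMod q) 0 with hk | hk
  · exfalso
    obtain ⟨c, hc⟩ := (ZMod.natCast_eq_zero_iff _ _).1 hk
    rw [hc, pow_mul, ← hz, pow_orderOf_eq_one, one_pow] at hconj
    have h1 : z = 1 := by simpa [mul_inv_eq_one] using hconj
    rw [h1, orderOf_one] at hz
    exact (Fact.out : q.Prime).one_lt.ne hz
  refine inv_of_ft_inv m hk (fun j => ?_) i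
  rw [hm, hm, val_mul_mod]
  have e : z ^ (k * j.val % q) = h * z ^ j.val * h⁻¹ := by
    have h1 : k * j.val % q = k * j.val % orderOf z := by rw [hz]
    rw [h1, pow_mod_orderOf, pow_mul, ← hconj, conj_pow]
  rw [e, hcl]

/-- All powers fused: the energy is `(q - 1) a ^ 2`. -/
theorem energy_one (m : ZMod q → ℤ) (h : ∀ i, i ≠ 0 → m i = m 1) :
    (q : ℤ) * ∑ i, m i ^ 2 - (∑ i, m i) ^ 2 = ((q : ℤ) - 1) * (m 0 - m 1) ^ 2 ∧
      ∑ i, m i = q * m 1 + (m 0 - m 1) := by
  classical
  have hs : ∀ g : ZMod q → ℤ, (∀ i, i ≠ 0 → g i = g 1) → ∑ i, g i = g 0 + ((q : ℤ) - 1) * g 1 := by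
    intro g hg
    rw [← Finset.add_sum_erase _ _ (Finset.mem_univ (0 : ZMod q)),
      Finset.sum_congr rfl fun i hi => hg i (Finset.ne_of_mem_erase hi), Finset.sum_const,
      Finset.card_erase_of_mem (Finset.mem_univ _), Finset.card_univ, ZMod.card, nsmul_eq_mul,
      Nat.cast_sub (Fact.out : q.Prime).one_le, Nat.cast_one]
  rw [hs m h, hs (fun i => m i ^ 2) fun i hi => by rw [h i hi]]
  constructor <;> ring

/-- Two classes of powers of size `r`. -/
theorem energy_two (m : ZMod q → ℤ) (S : Finset (ZMod q)) (r : ℕ) (hq : q = 2 * r + 1)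
    (h0 : (0 : ZMod q) ∉ S) (hS : S.card = r) {A B : ℤ} (hA : ∀ i ∈ S, m i = A)
    (hB : ∀ i ∉ S, i ≠ 0 → m i = B) :
    2 * ((q : ℤ) * ∑ i, m i ^ 2 - (∑ i, m i) ^ 2) =
        r * ((2 * m 0 - A - B) ^ 2 + q * (A - B) ^ 2) ∧
      ∑ i, m i = q * m 0 - r * (2 * m 0 - A - B) := by
  classical
  have hs : ∀ (g : ZMod q → ℤ) (a b : ℤ), (∀ i ∈ S, g i = a) → (∀ i ∉ S, i ≠ 0 → g i = b) →
      ∑ i, g i = g 0 + r * a + r * b := by
    intro g a b ha hb
    have hsub : S ⊆ Finset.univ.erase (0 : ZMod q) := fun i hi =>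
      Finset.mem_erase.2 ⟨fun e => h0 (e ▸ hi), Finset.mem_univ _⟩
    rw [← Finset.add_sum_erase _ _ (Finset.mem_univ (0 : ZMod q)), ← Finset.sum_sdiff hsub,
      Finset.sum_congr rfl (fun i hi => hb i (Finset.mem_sdiff.1 hi).2
        (Finset.ne_of_mem_erase (Finset.mem_sdiff.1 hi).1)), Finset.sum_const,
      Finset.sum_congr rfl ha, Finset.sum_const, Finset.card_sdiff_of_subset hsub,
      Finset.card_erase_of_mem (Finset.mem_univ _), Finset.card_univ, ZMod.card, hS,
      show q - 1 - r = r by omega]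
    simp only [nsmul_eq_mul]
    ring
  have hq' : (q : ℤ) = 2 * r + 1 := by exact_mod_cast hq
  rw [hs m A B hA hB, hs (fun i => m i ^ 2) (A ^ 2) (B ^ 2) (fun i hi => by rw [hA i hi])
    fun i hi hi0 => by rw [hB i hi hi0], hq']
  constructor <;> ring

end Cfsg.Agent.TwoBlocks
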