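import Cfsg.Agent.Sporadic96.M24.Cent
import Cfsg.Agent.SporStruct.SextetStab
import Cfsg.Agent.Lib.Leech.OctadInvolution

/-!
For an involution of `M₂₄`: an abelian subgroup of exponent two containing it, fixing its fixed
points, normalised by its centraliser, whose centraliser has exponent two.
-/

set_option autoImplicit false

namespace Cfsg.Agent.TwoBlocks

open Cfsg Cfsg.Agent.SporStruct.M24
open scoped Pointwise
open Cfsg.Agent.Golay (idx pt toSet Tab comp idTab isPermTab checkAut maps fixedPts inv0Tab)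
open Cfsg.Agent.Sporadic96 (toFam mem_toFam centSextet centInvRep invRep)

/-- The properties wanted of the subgroup attached to an involution. -/
structure IsKernel (g : Equiv.Perm GolayPt) (Q : Subgroup (Equiv.Perm GolayPt)) : Prop where
  le : Q ≤ Cfsg.M24
  mem : g ∈ Q
  sq : ∀ a ∈ Q, a * a = 1
  fix : ∀ a ∈ Q, ∀ p, g p = p → a p = p
  normal : ∀ c ∈ Cfsg.M24, c * g = g * c → ∀ a ∈ Q, c * a * c⁻¹ ∈ Q
  cent : ∀ c ∈ Cfsg.M24, (∀ a ∈ Q, c * a = a * c) → c * c = 1

theorem IsKernel.comm {g : Equiv.Perm GolayPt} {Q : Subgroup (Equiv.Perm GolayPt)}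
    (h : IsKernel g Q) {a b : Equiv.Perm GolayPt} (ha : a ∈ Q) (hb : b ∈ Q) : a * b = b * a := by
  calc a * b = (a * b)⁻¹ := (inv_eq_of_mul_eq_one_left (h.sq _ (Q.mul_mem ha hb))).symm
    _ = b⁻¹ * a⁻¹ := mul_inv_rev _ _
    _ = _ := by rw [inv_eq_of_mul_eq_one_left (h.sq _ ha), inv_eq_of_mul_eq_one_left (h.sq _ hb)]

theorem IsKernel.conj {g : Equiv.Perm GolayPt} {Q : Subgroup (Equiv.Perm GolayPt)}
    (h : IsKernel g Q) {k : Equiv.Perm GolayPt} (hk : k ∈ Cfsg.M24) :
    IsKernel (k * g * k⁻¹) (Q.map (MulAut.conj k).toMonoidHom) := by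
  have hc : ∀ c : Equiv.Perm GolayPt, c ∈ Cfsg.M24 → k⁻¹ * c * k ∈ Cfsg.M24 := fun c hc =>
    Cfsg.M24.mul_mem (Cfsg.M24.mul_mem (Cfsg.M24.inv_mem hk) hc) hk
  refine ⟨?_, ⟨g, h.mem, by simp⟩, ?_, ?_, ?_, ?_⟩
  · rintro _ ⟨a, ha, rfl⟩
    simpa using Cfsg.M24.mul_mem (Cfsg.M24.mul_mem hk (h.le ha)) (Cfsg.M24.inv_mem hk)
  · rintro _ ⟨a, ha, rfl⟩
    rw [← map_mul, h.sq a ha, map_one]
  · rintro _ ⟨a, ha, rfl⟩ p hp
    simp only [MulEquiv.coe_toMonoidHom, MulAut.conj_apply, Equiv.Perm.mul_apply] at hp ⊢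
    rw [h.fix a ha _ (k.injective (hp.trans (Equiv.apply_symm_apply k p).symm)),
      Equiv.Perm.coe_inv, Equiv.apply_symm_apply]
  · rintro c hcM hcomm _ ⟨a, ha, rfl⟩
    refine ⟨(k⁻¹ * c * k) * a * (k⁻¹ * c * k)⁻¹, h.normal _ (hc c hcM) ?_ a ha, ?_⟩
    · calc k⁻¹ * c * k * g = k⁻¹ * (c * (k * g * k⁻¹)) * k := by group
        _ = g * (k⁻¹ * c * k) := by rw [hcomm]; group
    · simp only [MulEquiv.coe_toMonoidHom, MulAut.conj_apply]
      group
  · intro c hcM hcomm
    have h2 := h.cent _ (hc c hcM) fun a ha => by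
      have := hcomm _ ⟨a, ha, rfl⟩
      simp only [MulEquiv.coe_toMonoidHom, MulAut.conj_apply] at this
      calc k⁻¹ * c * k * a = k⁻¹ * (c * (k * a * k⁻¹)) * k := by group
        _ = a * (k⁻¹ * c * k) := by rw [this]; group
    calc c * c = k * (k⁻¹ * c * k * (k⁻¹ * c * k)) * k⁻¹ := by group
      _ = 1 := by rw [h2, mul_one, mul_inv_cancel]

/-- The octad case. -/
theorem isKernel_pointFix {g : Equiv.Perm GolayPt} (hg : g ∈ Cfsg.M24)
    (ho : fixedPts g ∈ octads) : IsKernel g (pointFix (fixedPts g)) := by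
  have hgQ : g ∈ pointFix (fixedPts g) := mem_pointFix.2 ⟨hg, fun x hx => Golay.mem_fixedPts.1 hx⟩
  refine ⟨fun a ha => (mem_pointFix.1 ha).1, hgQ,
    fun a ha => Leech.sq_eq_one_of_mem_pointFix ho ha,
    fun a ha p hp => (mem_pointFix.1 ha).2 p (Golay.mem_fixedPts.2 hp), fun c hc hcomm a ha => ?_,
    fun c hc hcomm => ?_⟩
  · obtain ⟨haM, hafix⟩ := mem_pointFix.1 ha
    refine mem_pointFix.2 ⟨Cfsg.M24.mul_mem (Cfsg.M24.mul_mem hc haM) (Cfsg.M24.inv_mem hc),
      fun x hx => ?_⟩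
    have hx' : c⁻¹ x ∈ fixedPts g := by
      rw [Golay.mem_fixedPts] at hx ⊢
      apply c.injective
      rw [← Equiv.Perm.mul_apply c g, hcomm, Equiv.Perm.mul_apply, Equiv.Perm.coe_inv,
        Equiv.apply_symm_apply]
      exact hx
    rw [Equiv.Perm.mul_apply, Equiv.Perm.mul_apply, hafix _ hx', Equiv.Perm.coe_inv,
      Equiv.apply_symm_apply]
  · obtain ⟨p, hp⟩ := exists_outside ho
    have hcp : c p ∉ fixedPts g := fun h => by
      rw [Golay.mem_fixedPts, ← Equiv.Perm.mul_apply g c, ← hcomm g hgQ, Equiv.Perm.mul_apply] at h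
      exact hp (Golay.mem_fixedPts.2 (c.injective h))
    obtain ⟨e, he, hep⟩ := exists_pointFix_map ho hp hcp
    have hagree : ∀ q, q ∉ fixedPts g → c q = e q := by
      intro q hq
      obtain ⟨a, ha, rfl⟩ := exists_pointFix_map ho hp hq
      rw [← Equiv.Perm.mul_apply c a, hcomm a ha, Equiv.Perm.mul_apply, ← hep,
        ← Equiv.Perm.mul_apply a e, ← Equiv.Perm.mul_apply e a]
      have hcm : a * e = e * a := by
        calc a * e = (a * e)⁻¹ := (inv_eq_of_mul_eq_one_left
              (Leech.sq_eq_one_of_mem_pointFix ho ((pointFix _).mul_mem ha he))).symm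
          _ = e⁻¹ * a⁻¹ := mul_inv_rev _ _
          _ = _ := by
            rw [inv_eq_of_mul_eq_one_left (Leech.sq_eq_one_of_mem_pointFix ho ha),
              inv_eq_of_mul_eq_one_left (Leech.sq_eq_one_of_mem_pointFix ho he)]
      rw [hcm]
    refine Golay.eq_one_of_fixed (Cfsg.M24.mul_mem hc hc) (s := Finset.univ \ fixedPts g) ?_ ?_
    · rw [Finset.card_sdiff_of_subset (Finset.subset_univ _), Finset.card_univ, Golay.card_golayPt,
        Golay.card_of_mem_octads ho]
      norm_num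
    · intro q hq
      have hq' := (Finset.mem_sdiff.1 hq).2
      have hcq : c q ∉ fixedPts g := fun h => by
        rw [Golay.mem_fixedPts, ← Equiv.Perm.mul_apply g c, ← hcomm g hgQ, Equiv.Perm.mul_apply] at h
        exact hq' (Golay.mem_fixedPts.2 (c.injective h))
      rw [Equiv.Perm.mul_apply, hagree _ hcq, hagree _ hq', ← Equiv.Perm.mul_apply,
        Leech.sq_eq_one_of_mem_pointFix ho he, Equiv.Perm.one_apply]

/-- Elements of the group of order 64 attached to the sextet of the fixed-point-free representative. -/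
def kerTabs : List (List ℕ) := [
  [0, 2, 1, 4, 3, 13, 6, 7, 11, 20, 10, 8, 12, 5, 22, 15, 17, 16, 18, 21, 9, 19, 14, 23],
  [0, 11, 8, 4, 3, 13, 10, 15, 2, 9, 6, 1, 12, 5, 17, 7, 22, 14, 18, 19, 20, 21, 16, 23],
  [23, 1, 2, 3, 4, 5, 10, 15, 8, 21, 6, 11, 18, 13, 17, 7, 22, 14, 12, 20, 19, 9, 16, 0],
  [18, 2, 1, 5, 13, 3, 15, 10, 11, 20, 7, 8, 23, 4, 16, 6, 14, 22, 0, 21, 9, 19, 17, 12],
  [12, 1, 2, 13, 5, 4, 7, 6, 8, 21, 15, 11, 0, 3, 14, 10, 16, 17, 23, 20, 19, 9, 22, 18],
  [0, 8, 11, 4, 3, 13, 7, 6, 1, 19, 15, 2, 12, 5, 14, 10, 16, 17, 18, 9, 21, 20, 22, 23]]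

/-- The table fixes every tetrad and every split of it. -/
def splitOk (l : List ℕ) : Bool :=
  centSextet.all fun m =>
    maps l m m && (List.range 24).all fun a => (List.range 24).all fun b =>
      !(m.testBit a && m.testBit b) || a == b ||
        maps l (2 ^ a ||| 2 ^ b) (2 ^ a ||| 2 ^ b) ||
          maps l (2 ^ a ||| 2 ^ b) (m ^^^ (2 ^ a ||| 2 ^ b))

theorem ker_facts :
    (inv0Tab :: kerTabs).all (fun l => isPermTab l && checkAut l && splitOk l &&
      (comp l inv0Tab == comp inv0Tab l)) = true ∧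
    ((List.range 24).all fun r => (List.range 24).all fun q =>
      !(kerTabs.all fun l => (l.getD r 0 == r) == (l.getD q 0 == q)) ||
        (idTab :: kerTabs).any fun l => l.getD r 0 == q) = true := by
  decide +kernel

theorem splitFix_of_tab {h : Equiv.Perm GolayPt} {l : List ℕ} (t : Tab h l)
    (hs : splitOk l = true) : SplitFix (toFam centSextet) h := by
  intro T hT
  obtain ⟨m, hm, rfl⟩ := mem_toFam.1 hT
  simp only [splitOk, List.all_eq_true, Bool.and_eq_true, Bool.or_eq_true, Bool.not_eq_true',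
    List.mem_range, beq_iff_eq] at hs
  obtain ⟨h1, h2⟩ := hs m hm
  refine ⟨t.smul_toSet h1, fun s hsub hcard => ?_⟩
  obtain ⟨x, y, hxy, rfl⟩ := Finset.card_eq_two.1 hcard
  have hx := Golay.mem_toSet.1 (hsub (show x ∈ ({x, y} : Finset GolayPt) by simp))
  have hy := Golay.mem_toSet.1 (hsub (show y ∈ ({x, y} : Finset GolayPt) by simp))
  have e : toSet (2 ^ idx x ||| 2 ^ idx y) = ({x, y} : Finset GolayPt) := by
    ext p
    simp only [Golay.mem_toSet, Nat.testBit_or, Nat.testBit_two_pow, Bool.or_eq_true,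
      decide_eq_true_eq, Finset.mem_insert, Finset.mem_singleton]
    exact ⟨fun h => h.imp (fun e => Golay.idx_injective e.symm) (fun e => Golay.idx_injective e.symm),
      fun h => h.imp (fun e => by rw [e]) (fun e => by rw [e])⟩
  have e' : toSet (m ^^^ (2 ^ idx x ||| 2 ^ idx y)) = toSet m \ ({x, y} : Finset GolayPt) := by
    ext p
    rw [Finset.mem_sdiff, ← e, Golay.mem_toSet, Golay.mem_toSet, Golay.mem_toSet, Nat.testBit_xor]
    have key : (2 ^ idx x ||| 2 ^ idx y).testBit (idx p) = true → m.testBit (idx p) = true := by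
      intro h
      rw [← Golay.mem_toSet, e] at h
      exact Golay.mem_toSet.1 (hsub h)
    revert key
    cases (2 ^ idx x ||| 2 ^ idx y).testBit (idx p) <;> cases m.testBit (idx p) <;> simp
  rcases h2 (idx x) (Golay.idx_lt x) (idx y) (Golay.idx_lt y) with ((h | h) | h) | h
  · simp [hx, hy] at h
  · exact absurd (Golay.idx_injective h) hxy
  · left
    rw [← e]
    exact t.smul_toSet h
  · right
    rw [← e', ← e]
    exact t.smul_toSet h

/-- The group attached to the fixed-point-free representative. -/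
def kerRep : Subgroup (Equiv.Perm GolayPt) where
  carrier := {a | a ∈ centInvRep ∧ a • toFam centSextet = toFam centSextet ∧
    SplitFix (toFam centSextet) a}
  one_mem' := ⟨centInvRep.one_mem, one_smul _ _,
    fun t _ => ⟨one_smul _ t, fun s _ _ => Or.inl (one_smul _ s)⟩⟩
  mul_mem' := by
    rintro a b ⟨ha, sa, fa⟩ ⟨hb, sb, fb⟩
    exact ⟨centInvRep.mul_mem ha hb, by rw [mul_smul, sb, sa],
      (splitSub (toFam centSextet)).mul_mem
        (x := ⟨⟨a, (Sporadic96.mem_centInvRep.1 ha).1⟩, sa⟩)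
        (y := ⟨⟨b, (Sporadic96.mem_centInvRep.1 hb).1⟩, sb⟩) fa fb⟩
  inv_mem' := by
    rintro a ⟨ha, sa, fa⟩
    exact ⟨centInvRep.inv_mem ha, by rw [inv_smul_eq_iff, sa],
      (splitSub (toFam centSextet)).inv_mem (x := ⟨⟨a, (Sporadic96.mem_centInvRep.1 ha).1⟩, sa⟩) fa⟩

theorem mem_kerRep {a : Equiv.Perm GolayPt} : a ∈ kerRep ↔ a ∈ centInvRep ∧
    a • toFam centSextet = toFam centSextet ∧ SplitFix (toFam centSextet) a := Iff.rfl

theorem toFam_mem_sextets : toFam centSextet ∈ sextets := Sporadic96.centSextet_mem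

theorem mem_kerRep_of_tab {h : Equiv.Perm GolayPt} {l : List ℕ}
    (hl : l ∈ inv0Tab :: kerTabs) (t : Tab h l) : h ∈ kerRep := by
  have hf := List.all_eq_true.1 ker_facts.1 l hl
  simp only [Bool.and_eq_true, beq_iff_eq] at hf
  obtain ⟨⟨⟨hp, hc⟩, hs⟩, hcomm⟩ := hf
  have hmem : h ∈ centInvRep := Sporadic96.mem_centInvRep.2 ⟨t.mem_M24 hc,
    Golay.tab_unique (t.mul Sporadic96.tab_invRep) (hcomm.symm ▸ Sporadic96.tab_invRep.mul t)⟩
  exact ⟨hmem, Sporadic96.cent_sextet hmem, splitFix_of_tab t hs⟩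

/-- The fixed-point-free case, for the representative. -/
theorem isKernel_kerRep : IsKernel invRep kerRep := by
  refine ⟨fun a ha => (Sporadic96.mem_centInvRep.1 ha.1).1,
    mem_kerRep_of_tab List.mem_cons_self Sporadic96.tab_invRep,
    fun a ha => SplitFix.involution toFam_mem_sextets ha.2.2,
    fun a _ p hp => ?_, fun c hc hcomm a ha => ?_, fun c hc hcomm => ?_⟩
  · exfalso
    have := Sporadic96.invRep_facts.2
    rw [Finset.card_eq_zero] at this
    exact absurd (Golay.mem_fixedPts.2 hp) (by rw [this]; exact Finset.notMem_empty p)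
  · obtain ⟨hac, has, haf⟩ := ha
    have hcm : c ∈ centInvRep := Sporadic96.mem_centInvRep.2 ⟨hc, hcomm⟩
    have hcS := Sporadic96.cent_sextet hcm
    have hf := SplitFix.conj haf c
    rw [hcS] at hf
    refine ⟨centInvRep.mul_mem (centInvRep.mul_mem hcm hac) (centInvRep.inv_mem hcm), ?_, hf⟩
    rw [mul_smul, mul_smul, inv_smul_eq_iff.2 hcS.symm, has, hcS]
  · obtain ⟨hfacts, hpat⟩ := ker_facts
    simp only [List.all_eq_true, List.mem_range, Bool.or_eq_true, Bool.not_eq_true',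
      List.any_eq_true, beq_iff_eq] at hpat
    refine Equiv.ext fun x => ?_
    rw [Equiv.Perm.mul_apply, Equiv.Perm.one_apply]
    rcases hpat (idx x) (Golay.idx_lt x) (idx (c x)) (Golay.idx_lt _) with h | ⟨l, hl, hlx⟩
    · exfalso
      rw [List.all_eq_false] at h
      obtain ⟨l, hl, hne⟩ := h
      apply hne
      have hlf := List.all_eq_true.1 hfacts l (List.mem_cons_of_mem _ hl)
      simp only [Bool.and_eq_true] at hlf
      have t := Golay.tab_permOf hlf.1.1.1
      have hcu := hcomm _ (mem_kerRep_of_tab (List.mem_cons_of_mem _ hl) t)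
      have key : ∀ y, (l.getD (idx y) 0 == idx y) = true ↔ Golay.permOf l hlf.1.1.1 y = y := by
        intro y
        rw [beq_iff_eq, t.apply]
        exact ⟨fun h => by rw [h, Golay.pt_idx], fun h => by
          conv_rhs => rw [← h, Golay.idx_pt (t.lt (Golay.idx_lt y))]⟩
      rw [beq_iff_eq, Bool.eq_iff_iff, key, key]
      have hx := DFunLike.congr_fun hcu x
      rw [Equiv.Perm.mul_apply, Equiv.Perm.mul_apply] at hx
      exact ⟨fun h => by rw [← hx, h], fun h => c.injective (hx.trans h)⟩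
    · -- the image is reached by an element of the group
      obtain ⟨u, hu, hux⟩ : ∃ u ∈ kerRep, u x = c x := by
        rcases List.mem_cons.1 hl with rfl | hl
        · refine ⟨1, kerRep.one_mem, Golay.idx_injective ?_⟩
          rw [Equiv.Perm.one_apply, ← hlx]
          exact (Golay.tab_one _ (Golay.idx_lt x)).symm.trans (by rw [Golay.pt_idx]; rfl) |>.symm
        · have hlf := List.all_eq_true.1 hfacts l (List.mem_cons_of_mem _ hl)
          simp only [Bool.and_eq_true] at hlf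
          have t := Golay.tab_permOf hlf.1.1.1
          exact ⟨_, mem_kerRep_of_tab (List.mem_cons_of_mem _ hl) t, by
            rw [t.apply, hlx, Golay.pt_idx]⟩
      rw [← hux, ← Equiv.Perm.mul_apply c u, hcomm u hu, Equiv.Perm.mul_apply, ← hux,
        ← Equiv.Perm.mul_apply, SplitFix.involution toFam_mem_sextets hu.2.2,
        Equiv.Perm.one_apply]

/-- Every involution of `M₂₄` has such a subgroup. -/
theorem exists_kernel {g : Equiv.Perm GolayPt} (hg : g ∈ Cfsg.M24) (ho : orderOf g = 2) :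
    ∃ Q, IsKernel g Q := by
  rcases Sporadic96.exists_rep_two hg ho with ⟨h8, -⟩ | ⟨-, k, hk, r, tr, rfl⟩
  · rcases Golay.involution_classes.1 g hg ho with h | h
    · exact ⟨_, isKernel_pointFix hg (by
        rwa [Sporadic96.fixedPts_eq_filter] at h)⟩
    · exfalso
      obtain ⟨p, hp⟩ := Finset.card_pos.1 (show 0 < (fixedPts g).card by omega)
      exact h p (Golay.mem_fixedPts.1 hp)
  · obtain rfl := Golay.tab_unique tr Sporadic96.tab_invRep
    exact ⟨_, isKernel_kerRep.conj hk⟩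

end Cfsg.Agent.TwoBlocks
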