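import Cfsg.Agent.S4487
import Cfsg.Agent.BC85.Pairs.Maximal
import Cfsg.Agent.Blocks88.Defect
import Cfsg.Agent.Lib.Thompson.Cores
import Cfsg.Agent.TwoBlocks.M24Involution

/-!
A group whose involution centralisers have one 2-block and which has no character of defect zero
has a single 2-block.
-/

set_option autoImplicit false

namespace Cfsg.Agent.TwoBlocks

open Cfsg BlocksCore BlocksDefect

universe u

variable {G : Type u} [Group G] [Finite G]

/-- A single 2-block. -/
theorem sameBlock_of_involutions (M : Ideal AlgInt) (hM : IsPModular 2 M)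
    (hdeg : ∀ χ : IrrCharacter G,
      (charDegree (χ : G → ℂ)).factorization 2 < (Nat.card G).factorization 2)
    (hone : ∀ t : G, orderOf t = 2 →
      ∀ χ ψ : IrrCharacter (Subgroup.centralizer (Subgroup.zpowers t : Set G)),
        SameBlock M (χ : Subgroup.centralizer (Subgroup.zpowers t : Set G) → ℂ)
          (ψ : Subgroup.centralizer (Subgroup.zpowers t : Set G) → ℂ))
    (χ ψ : IrrCharacter G) : SameBlock M (χ : G → ℂ) (ψ : G → ℂ) := by
  classical
  have : Fact (Nat.Prime 2) := ⟨Nat.prime_two⟩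
  have := isPrime hM
  have := Fintype.ofFinite G
  let one : IrrCharacter G := ⟨1, CharCore.isIrrCharacter_one⟩
  suffices h : ∀ φ : IrrCharacter G, SameBlock M (φ : G → ℂ) (one : G → ℂ) from
    sameBlock_trans (h χ) (sameBlock_symm (h ψ))
  intro φ
  set B := blockOf M (φ : G → ℂ) with hBdef
  set B0 := blockOf M (one : G → ℂ) with hB0def
  have hB : IsPBlock M B := isPBlock_blockOf φ
  have hB0 : IsPBlock M B0 := isPBlock_blockOf one
  obtain ⟨D, hD⟩ := exists_isDefectGroup hM hB
  obtain ⟨D0, hD0⟩ := exists_isDefectGroup hM hB0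
  -- the defect group is not trivial
  have hDne : 2 ∣ Nat.card D := by
    rw [Blocks88.natCard_defectGroup hM hB hD]
    refine dvd_pow_self 2 fun h => ?_
    rw [blockDefect, Nat.sub_eq_zero_iff_le] at h
    have h1 : sInf ((fun χ : IrrCharacter G => (charDegree (χ : G → ℂ)).factorization 2) '' B) ≤
        (charDegree (φ : G → ℂ)).factorization 2 :=
      Nat.sInf_le ⟨φ, mem_blockOf_self φ, rfl⟩
    exact absurd (h.trans h1) (not_le.2 (hdeg φ))
  obtain ⟨⟨t, htD⟩, ht⟩ := exists_prime_orderOf_dvd_card' 2 hDne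
  rw [Subgroup.orderOf_mk] at ht
  set R := Subgroup.zpowers t
  have hR : IsPGroup 2 R := IsPGroup.of_card (n := 1) (by rw [Nat.card_zpowers, ht, pow_one])
  have hRD : SubConj R D := ⟨1, by
    rintro _ ⟨a, ha, rfl⟩
    simpa using Subgroup.zpowers_le.2 htD ha⟩
  have hRD0 : SubConj R D0 := by
    have hfull : Nat.card D0 = 2 ^ (Nat.card G).factorization 2 := by
      rw [Blocks88.natCard_defectGroup hM hB0 hD0, blockDefect]
      congr 1
      have h1 : sInf ((fun χ : IrrCharacter G => (charDegree (χ : G → ℂ)).factorization 2) '' B0) ≤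
          (charDegree (one : G → ℂ)).factorization 2 :=
        Nat.sInf_le ⟨one, mem_blockOf_self one, rfl⟩
      have h2 : charDegree (one : G → ℂ) = 1 := by simp [charDegree, one]
      rw [h2, Nat.factorization_one, Finsupp.zero_apply, Nat.le_zero] at h1
      omega
    obtain ⟨P, hP⟩ := hR.exists_le_sylow
    let P0 : Sylow 2 G := Sylow.ofCard D0 hfull
    obtain ⟨x, hx⟩ := MulAction.exists_smul_eq G P P0
    refine ⟨x, ?_⟩
    have e : (P0 : Subgroup G) = D0 := rfl
    rw [← e, ← hx]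
    rintro _ ⟨a, ha, rfl⟩
    exact ⟨a, hP ha, rfl⟩
  obtain ⟨g, hg⟩ := BC85.exists_pairOf_of_subConj hM hB hD hR hRD
  obtain ⟨g0, hg0⟩ := BC85.exists_pairOf_of_subConj hM hB0 hD0 hR hRD0
  have hgg : g = g0 := by
    obtain ⟨ξ, hξ⟩ := isPBlock_nonempty hg.1.2
    obtain ⟨ξ', hξ'⟩ := isPBlock_nonempty hg0.1.2
    rw [isPBlock_eq_blockOf hg.1.2 hξ, isPBlock_eq_blockOf hg0.1.2 hξ']
    exact blockOf_eq_of_sameBlock (hone t ht ξ ξ')
  subst hgg
  have e : B = B0 := (BC85.existsUnique_block_of_pair hM hg.1).unique hg hg0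
  exact sameBlock_of_mem hB (mem_blockOf_self φ) (e ▸ mem_blockOf_self one)

/-- Centralisers of involutions in a group of permutations inside `M₂₄`. -/
theorem sameBlock_centralizer (M : Ideal AlgInt) (hM : IsPModular 2 M)
    (H : Subgroup (Equiv.Perm GolayPt)) (hH : H ≤ Cfsg.M24)
    (hfix : ∀ a ∈ Cfsg.M24, ∀ g ∈ H, (∀ p, g p = p → a p = p) → a ∈ H)
    (t : H) (ht : orderOf t = 2)
    (χ ψ : IrrCharacter (Subgroup.centralizer (Subgroup.zpowers t : Set H))) :
    SameBlock M (χ : Subgroup.centralizer (Subgroup.zpowers t : Set H) → ℂ)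
      (ψ : Subgroup.centralizer (Subgroup.zpowers t : Set H) → ℂ) := by
  classical
  have : Fact (Nat.Prime 2) := ⟨Nat.prime_two⟩
  obtain ⟨Q, hQ⟩ := exists_kernel (hH t.2) ((Subgroup.orderOf_coe t).trans ht)
  let C := Subgroup.centralizer (Subgroup.zpowers t : Set H)
  have hmemC : ∀ c : H, c ∈ C ↔ (c : Equiv.Perm GolayPt) * t = t * c := fun c => by
    rw [← Subgroup.coe_mul, ← Subgroup.coe_mul, Subtype.coe_inj, Subgroup.mem_centralizer_iff]
    refine ⟨fun h => (h t (Subgroup.mem_zpowers t)).symm, fun h a ha => ?_⟩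
    obtain ⟨i, rfl⟩ := Subgroup.mem_zpowers_iff.1 ha
    exact ((show Commute c t from h).zpow_right i).symm.eq
  have hQH : ∀ a ∈ Q, a ∈ H := fun a ha => hfix a (hQ.le ha) t t.2 (hQ.fix a ha)
  let ι : C →* Equiv.Perm GolayPt := H.subtype.comp C.subtype
  let W : Subgroup C := Subgroup.centralizer ((Q.comap ι : Subgroup C) : Set C)
  have hQC : ∀ a ∈ Q, ∃ b : C, ι b = a := fun a ha =>
    ⟨⟨⟨a, hQH a ha⟩, (hmemC _).2 (hQ.comm ha hQ.mem)⟩, rfl⟩
  have hWsq : ∀ w ∈ W, w ^ 2 = 1 := fun w hw => Subtype.ext (Subtype.ext (by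
    show ((w ^ 2 : C) : H).1 = 1
    rw [pow_two]
    refine hQ.cent (ι w) (hH w.1.2) fun a ha => ?_
    obtain ⟨b, rfl⟩ := hQC a ha
    rw [← map_mul, ← map_mul]
    exact congrArg ι (Subgroup.mem_centralizer_iff.1 hw b ha).symm))
  have hn : (Q.comap ι).Normal := ⟨fun b hb c => by
    rw [Subgroup.mem_comap, map_mul, map_mul, map_inv]
    exact hQ.normal _ (hH c.1.2) ((hmemC _).1 c.2) _ hb⟩
  have hWn : W.Normal := Subgroup.normal_centralizer
  have hW2 : IsPGroup 2 W := fun w => ⟨1, Subtype.ext (by simpa using hWsq w.1 w.2)⟩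
  have hQW : Q.comap ι ≤ W := fun a ha => Subgroup.mem_centralizer_iff.2 fun b hb =>
    Subtype.ext (Subtype.ext (hQ.comm hb ha))
  have hcore : W ≤ pCore 2 C := Thompson.le_pCore hWn hW2
  refine S4487.result 2 M hM ?_ ?_ χ ψ
  · rw [Subgroup.eq_bot_iff_forall]
    intro k hk
    have hcop := Thompson.card_pPrimeCore_coprime (p := 2) (G := C)
    have hkW : k ∈ W := Subgroup.mem_centralizer_iff.2 fun b hb => by
      have hdisj : Disjoint (pPrimeCore 2 C) (Q.comap ι) := by
        have hQ2 : IsPGroup 2 (Q.comap ι : Subgroup C) := hW2.to_le hQW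
        obtain ⟨n, hn'⟩ := IsPGroup.iff_card.1 hQ2
        rw [disjoint_iff]
        exact Subgroup.inf_eq_bot_of_coprime (by rw [hn']; exact Nat.Coprime.pow_right n hcop)
      exact (Subgroup.commute_of_normal_of_disjoint _ _ inferInstance hn hdisj k b hk hb).symm
    have h2 : orderOf k ∣ 2 := orderOf_dvd_of_pow_eq_one (hWsq k hkW)
    have h3 : orderOf k ∣ Nat.card (pPrimeCore 2 C) := by
      rw [← Subgroup.orderOf_mk k hk]; exact orderOf_dvd_natCard _
    exact orderOf_eq_one_iff.1 (Nat.eq_one_of_dvd_coprimes hcop h3 h2)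
  · intro k hk
    have h1 : k ∈ W := Subgroup.mem_centralizer_iff.2 fun b hb =>
      Subgroup.mem_centralizer_iff.1 hk b (hcore (hQW hb))
    exact hcore h1

end Cfsg.Agent.TwoBlocks
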