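import Cfsg.Agent.Lib.Golay.Fixed
import Cfsg.Agent.Lib.Golay.Simple

/-!
Elements of prime order of `M₂₄` with elements inducing a power map on them.
-/

set_option autoImplicit false

namespace Cfsg.Agent.TwoBlocks

open Cfsg Cfsg.Agent.Golay

def sevenEl : List ℕ :=
  [0, 12, 1, 2, 10, 8, 6, 4, 20, 15, 3, 13, 7, 16, 11, 22, 19, 18, 14, 17, 21, 9, 5, 23]
def fiveFus : List ℕ :=
  [0, 1, 18, 15, 6, 13, 2, 8, 10, 7, 9, 14, 21, 20, 17, 3, 5, 19, 4, 11, 16, 12, 22, 23]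
def sevenFus : List ℕ :=
  [0, 1, 3, 4, 2, 20, 6, 10, 9, 21, 12, 16, 7, 17, 11, 15, 14, 19, 18, 13, 22, 8, 5, 23]
def elevenFus : List ℕ :=
  [23, 5, 20, 22, 11, 1, 19, 13, 21, 14, 4, 3, 7, 17, 6, 9, 15, 18, 10, 8, 16, 2, 12, 0]

/-- A table of an element of `M₂₄`. -/
def good (l : List ℕ) : Bool := isPermTab l && checkAut l

/-- `h x h⁻¹ = x ^ 2` for tables. -/
def fuses (h x : List ℕ) : Bool := comp h x == comp (comp x x) h

theorem five_facts :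
    good fiveTab = true ∧ good fiveFus = true ∧ fuses fiveFus fiveTab = true ∧
      powTab fiveTab 5 = idTab ∧ (fiveTab.getD 1 0 ≠ 1 ∨ fiveTab.getD 2 0 ≠ 2) ∧
      [fiveTab, fiveFus].all (fun l => (l.getD 0 0 == 0) && (l.getD 23 0 == 23)) = true := by
  decide +kernel

theorem seven_facts :
    good sevenEl = true ∧ good sevenFus = true ∧ fuses sevenFus sevenEl = true ∧
      powTab sevenEl 7 = idTab ∧ (sevenEl.getD 1 0 ≠ 1 ∨ sevenEl.getD 2 0 ≠ 2) ∧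
      [sevenEl, sevenFus].all (fun l => (l.getD 0 0 == 0) && (l.getD 23 0 == 23)) = true := by
  decide +kernel

theorem eleven_facts :
    good doubleTab = true ∧ good elevenFus = true ∧ fuses elevenFus doubleTab = true ∧
      powTab doubleTab 11 = idTab ∧ (doubleTab.getD 1 0 ≠ 1 ∨ doubleTab.getD 2 0 ≠ 2) := by
  decide +kernel

theorem twentythree_facts :
    good shiftTab = true ∧ good doubleTab = true ∧ fuses doubleTab shiftTab = true ∧
      powTab shiftTab 23 = idTab ∧ (shiftTab.getD 1 0 ≠ 1 ∨ shiftTab.getD 2 0 ≠ 2) := by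
  decide +kernel

theorem exists_good {l : List ℕ} (h : good l = true) : ∃ σ ∈ Cfsg.M24, Tab σ l := by
  simp only [good, Bool.and_eq_true] at h
  exact ⟨_, (tab_permOf h.1).mem_M24 h.2, tab_permOf h.1⟩

theorem mem_M22_of {l : List ℕ} {σ : Equiv.Perm GolayPt} (h24 : σ ∈ Cfsg.M24) (t : Tab σ l)
    (h : ((l.getD 0 0 == 0) && (l.getD 23 0 == 23)) = true) : σ ∈ Spor.M22 := by
  simp only [Bool.and_eq_true, beq_iff_eq] at h
  refine ⟨⟨h24, ?_⟩, ?_⟩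
  · show σ none = none
    rw [t.apply, show idx (none : GolayPt) = 23 from rfl, h.2]
    decide +kernel
  · show σ (some 0) = some 0
    rw [t.apply, show idx (some 0 : GolayPt) = 0 from rfl, h.1]
    decide +kernel

/-- The element and its fusing element. -/
theorem exists_fused (H : Subgroup (Equiv.Perm GolayPt)) {q : ℕ} [Fact q.Prime] {x h : List ℕ}
    (hx : good x = true) (hh : good h = true) (hf : fuses h x = true) (hp : powTab x q = idTab)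
    (hne : x.getD 1 0 ≠ 1 ∨ x.getD 2 0 ≠ 2) (hmem : ∀ l ∈ [x, h], ∀ σ ∈ Cfsg.M24, Tab σ l → σ ∈ H) :
    ∃ z g : H, Tab (z : Equiv.Perm GolayPt) x ∧ orderOf z = q ∧ g * z * g⁻¹ = z ^ 2 := by
  obtain ⟨σ, hσ, tσ⟩ := exists_good hx
  obtain ⟨τ, hτ, tτ⟩ := exists_good hh
  refine ⟨⟨σ, hmem x (by simp) σ hσ tσ⟩, ⟨τ, hmem h (by simp) τ hτ tτ⟩, tσ, ?_, ?_⟩
  · rw [← Subgroup.orderOf_coe]
    exact tσ.orderOf_eq Fact.out hne hp
  · apply Subtype.ext
    show τ * σ * τ⁻¹ = σ ^ 2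
    rw [mul_inv_eq_iff_eq_mul, pow_two]
    have h1 := tτ.mul tσ
    simp only [fuses, beq_iff_eq] at hf
    rw [hf] at h1
    exact tab_unique h1 ((tσ.mul tσ).mul tτ)

/-- Elements of order 3 commuting with the element of order 5. -/
def threeComm : List (List ℕ) :=
  [[0, 1, 2, 15, 4, 19, 6, 11, 20, 5, 17, 13, 21, 7, 8, 23, 10, 16, 18, 9, 14, 22, 12, 3],
   [0, 1, 2, 23, 4, 9, 6, 13, 14, 19, 16, 7, 22, 11, 20, 3, 17, 10, 18, 5, 8, 12, 21, 15],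
   [3, 12, 13, 15, 16, 6, 9, 2, 20, 5, 4, 11, 21, 7, 14, 0, 10, 17, 8, 19, 18, 1, 22, 23],
   [3, 12, 13, 23, 16, 5, 9, 7, 14, 19, 10, 2, 22, 11, 18, 15, 17, 4, 8, 6, 20, 21, 1, 0],
   [15, 21, 7, 0, 10, 9, 5, 13, 18, 6, 16, 11, 1, 2, 14, 3, 4, 17, 20, 19, 8, 12, 22, 23],
   [15, 21, 7, 3, 10, 19, 5, 11, 8, 9, 17, 2, 12, 13, 18, 23, 16, 4, 20, 6, 14, 22, 1, 0],
   [23, 22, 11, 0, 17, 5, 19, 7, 18, 6, 10, 13, 1, 2, 8, 15, 4, 16, 14, 9, 20, 21, 12, 3],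
   [23, 22, 11, 3, 17, 6, 19, 2, 8, 9, 4, 7, 12, 13, 20, 0, 16, 10, 14, 5, 18, 1, 21, 15]]

theorem threeComm_facts : threeComm.all (fun l => good l && (powTab l 3 == idTab) &&
      ((l.getD 1 0 != 1) || (l.getD 2 0 != 2) || (l.getD 3 0 != 3)) &&
      (comp l fiveTab == comp fiveTab l)) = true ∧
    (threeComm.map fun l => (l.getD 0 0, l.getD 3 0)).Nodup ∧ threeComm.length = 8 := by
  decide +kernel

end Cfsg.Agent.TwoBlocks
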