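import Cfsg.Agent.TwoBlocks.DegreeBasic
import Cfsg.Agent.TwoBlocks.Tables
import Cfsg.Agent.Lib.Golay.Order

/-!
No irreducible character of `M₂₂` has 2-defect zero.
-/

set_option autoImplicit false

namespace Cfsg.Agent.TwoBlocks

open Cfsg Cfsg.Agent.Golay

local instance : Fact (Nat.Prime 5) := ⟨by norm_num⟩
local instance : Fact (Nat.Prime 7) := ⟨by norm_num⟩

theorem five_form (m : ZMod 5 → ℤ) (hm : ∀ i, m (2 * i) = m i) :
    ∃ a : ℤ, 5 * ∑ i, m i ^ 2 - (∑ i, m i) ^ 2 = 4 * a ^ 2 ∧ ∑ i, m i = 5 * m 1 + a := by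
  have h2 : m 2 = m 1 := by simpa using hm 1
  have h4 : m 4 = m 1 := by rw [show (4 : ZMod 5) = 2 * 2 from rfl, hm, h2]
  have h3 : m 3 = m 1 := by rw [show (3 : ZMod 5) = 2 * 4 from rfl, hm, h4]
  obtain ⟨e1, e2⟩ := energy_one m fun i hi => by
    fin_cases i
    exacts [absurd rfl hi, rfl, h2, h3, h4]
  exact ⟨m 0 - m 1, by push_cast at e1; linarith, by push_cast at e2; linarith⟩

theorem seven_form (m : ZMod 7 → ℤ) (hm : ∀ i, m (2 * i) = m i) :
    ∃ u v m0 : ℤ, 2 ∣ u - v ∧ 2 * (7 * ∑ i, m i ^ 2 - (∑ i, m i) ^ 2) = 3 * (u ^ 2 + 7 * v ^ 2) ∧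
      ∑ i, m i = 7 * m0 - 3 * u := by
  have h2 : m 2 = m 1 := by simpa using hm 1
  have h4 : m 4 = m 1 := by rw [show (4 : ZMod 7) = 2 * 2 from rfl, hm, h2]
  have h6 : m 6 = m 3 := by rw [show (6 : ZMod 7) = 2 * 3 from rfl, hm]
  have h5 : m 5 = m 3 := by rw [show (5 : ZMod 7) = 2 * 6 from rfl, hm, h6]
  obtain ⟨e1, e2⟩ := energy_two m {1, 2, 4} 3 (by norm_num) (by decide) (by decide)
    (A := m 1) (B := m 3)
    (fun i hi => by
      simp only [Finset.mem_insert, Finset.mem_singleton] at hi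
      rcases hi with rfl | rfl | rfl
      exacts [rfl, h2, h4])
    (fun i hi h0 => by
      have key : ∀ i : ZMod 7, i ∉ ({1, 2, 4} : Finset (ZMod 7)) → i ≠ 0 →
          i = 3 ∨ i = 5 ∨ i = 6 := by decide
      rcases key i hi h0 with rfl | rfl | rfl
      exacts [rfl, h5, h6])
  exact ⟨2 * m 0 - m 1 - m 3, m 1 - m 3, m 0, ⟨m 0 - m 1, by ring⟩,
    by push_cast at e1; linarith, by push_cast at e2; linarith⟩

theorem five_bound (m : ZMod 5 → ℤ) (hm : ∀ i, m (2 * i) = m i) (hd : ∑ i, m i = 383) :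
    (16 : ℤ) ≤ 5 * ∑ i, m i ^ 2 - (∑ i, m i) ^ 2 := by
  obtain ⟨a, h1, h2⟩ := five_form m hm
  have : a ≤ -2 ∨ 2 ≤ a := by omega
  rcases this with h | h <;> nlinarith

theorem seven_bound (m : ZMod 7 → ℤ) (hm : ∀ i, m (2 * i) = m i) {L : ℤ}
    (hd : (∑ i, m i = 128 ∧ L = 24) ∨ (∑ i, m i = 383 ∧ L = 24) ∨ (∑ i, m i = 640 ∧ L = 12)) :
    L ≤ 7 * ∑ i, m i ^ 2 - (∑ i, m i) ^ 2 := by
  obtain ⟨u, v, m0, ⟨w, hw⟩, h1, h2⟩ := seven_form m hm
  rcases hd with ⟨hs, rfl⟩ | ⟨hs, rfl⟩ | ⟨hs, rfl⟩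
  · have : u ≤ -4 ∨ 4 ≤ u ∨ (u = -3 ∧ (v ≤ -1 ∨ 1 ≤ v)) := by omega
    rcases this with h | h | ⟨rfl, h | h⟩ <;> nlinarith
  · have : u ≤ -4 ∨ 4 ≤ u ∨ (u = 3 ∧ (v ≤ -1 ∨ 1 ≤ v)) := by omega
    rcases this with h | h | ⟨rfl, h | h⟩ <;> nlinarith
  · have : u ≤ -3 ∨ 3 ≤ u ∨ (u = -1 ∧ (v ≤ -1 ∨ 1 ≤ v)) := by omega
    rcases this with h | h | ⟨rfl, h | h⟩ <;> nlinarith

theorem M22_le : Spor.M22 ≤ Cfsg.M24 := inf_le_left.trans inf_le_left

theorem M22_fixes : ∀ g ∈ Spor.M22, ∀ p ∈ ({none, some 0} : Finset GolayPt), g p = p := by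
  intro g hg p hp
  simp only [Finset.mem_insert, Finset.mem_singleton] at hp
  rcases hp with rfl | rfl
  exacts [hg.1.2, hg.2]

theorem card_fixed_sdiff {g : Equiv.Perm GolayPt} (hg : g ∈ Spor.M22) :
    (fixedPts g \ ({none, some 0} : Finset GolayPt)).card = (fixedPts g).card - 2 := by
  rw [Finset.card_sdiff_of_subset fun p hp => mem_fixedPts.2 (M22_fixes g hg p hp)]
  rfl

theorem sylow_five_M22 {z : Spor.M22} (hz : orderOf z = 5) :
    22176 ≤ Nat.card (Sylow 5 Spor.M22) := by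
  have hf : (fixedPts z.1).card = 4 :=
    card_fixedPts_five (M22_le z.2) ((Subgroup.orderOf_coe z).trans hz)
  obtain ⟨a, b, hab, ha, hb, -⟩ := card_centralizer_dvd Spor.M22 M22_le z hz (by rw [hf])
    {none, some 0} M22_fixes
  rw [card_fixed_sdiff z.2, hf] at hb
  rw [hf] at ha
  obtain ⟨k, hk, hn, hmod⟩ := card_sylow_mul (c := 8) (by rw [card_M22]; norm_num) hz
    (by rw [hab]; exact Nat.mul_dvd_mul ha hb |>.trans (by decide))
  rw [card_M22] at hn
  have hmem : k ∈ Nat.divisors 32 := Nat.mem_divisors.2 ⟨hk, by norm_num⟩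
  rw [show Nat.divisors 32 = {1, 2, 4, 8, 16, 32} by decide +kernel] at hmem
  simp only [Finset.mem_insert, Finset.mem_singleton] at hmem
  rcases hmem with rfl | rfl | rfl | rfl | rfl | rfl <;> omega

theorem sylow_seven_M22 {z : Spor.M22} (hz : orderOf z = 7) :
    21120 ≤ Nat.card (Sylow 7 Spor.M22) := by
  have hf : (fixedPts z.1).card = 3 :=
    card_fixedPts_seven (M22_le z.2) ((Subgroup.orderOf_coe z).trans hz)
  obtain ⟨a, b, hab, ha, hb, -⟩ := card_centralizer_dvd Spor.M22 M22_le z hz (by rw [hf]; norm_num)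
    {none, some 0} M22_fixes
  rw [card_fixed_sdiff z.2, hf] at hb
  rw [hf] at ha
  obtain ⟨k, hk, hn, hmod⟩ := card_sylow_mul (c := 3) (by rw [card_M22]; norm_num) hz
    (by rw [hab]; exact Nat.mul_dvd_mul ha hb |>.trans (by decide))
  rw [card_M22] at hn
  have hmem : k ∈ Nat.divisors 18 := Nat.mem_divisors.2 ⟨hk, by norm_num⟩
  rw [show Nat.divisors 18 = {1, 2, 3, 6, 9, 18} by decide +kernel] at hmem
  simp only [Finset.mem_insert, Finset.mem_singleton] at hmem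
  rcases hmem with rfl | rfl | rfl | rfl | rfl | rfl <;> omega

theorem M22_degree (χ : IrrCharacter Spor.M22) :
    (charDegree (χ : Spor.M22 → ℂ)).factorization 2 < (Nat.card Spor.M22).factorization 2 := by
  classical
  have := Fintype.ofFinite Spor.M22
  set d := charDegree (χ : Spor.M22 → ℂ) with hd
  by_contra hlt
  push Not at hlt
  have hd0 : d ≠ 0 := fun e => CharCore.irr_apply_one_ne_zero χ (by rw [one_eq_charDegree, ← hd, e]; simp)
  have h128 : 128 ∣ d := by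
    have h7 : 7 ≤ (Nat.card Spor.M22).factorization 2 :=
      (Nat.prime_two.pow_dvd_iff_le_factorization (by rw [card_M22]; norm_num)).1
        (by rw [card_M22]; norm_num)
    have := (Nat.prime_two.pow_dvd_iff_le_factorization hd0).2 (h7.trans hlt)
    simpa using this
  have hdvd : d ∣ 443520 := card_M22 ▸ BlocksCore.charDegree_dvd_card χ
  have htot : ∑ g : Spor.M22, ‖(χ : Spor.M22 → ℂ) g‖ ^ 2 = 443520 := by
    rw [total_norm, card_M22]; norm_num
  have hone : ∀ s : ℤ, ‖(χ : Spor.M22 → ℂ) 1 + s‖ ^ 2 = (((d : ℤ) + s : ℤ) : ℝ) ^ 2 := fun s => by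
    rw [one_eq_charDegree, ← hd, show ((d : ℂ) + (s : ℂ)) = (((d : ℤ) + s : ℤ) : ℂ) by push_cast; rfl,
      Complex.norm_intCast, sq_abs]
  have hd666 : d * d ≤ 443520 := by
    have h := Finset.single_le_sum (fun g _ => sq_nonneg ‖(χ : Spor.M22 → ℂ) g‖)
      (Finset.mem_univ (1 : Spor.M22))
    rw [htot, one_eq_charDegree, ← hd, Complex.norm_natCast] at h
    have h' : ((d * d : ℕ) : ℝ) ≤ ((443520 : ℕ) : ℝ) := by push_cast; linarith [pow_two (d : ℝ)]
    exact_mod_cast h'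
  obtain ⟨z, g, -, hz, hconj⟩ := exists_fused Spor.M22 (q := 5) five_facts.1 five_facts.2.1
    five_facts.2.2.1 five_facts.2.2.2.1 five_facts.2.2.2.2.1 fun l hl σ hσ t =>
      mem_M22_of hσ t (List.all_eq_true.1 five_facts.2.2.2.2.2 l hl)
  obtain ⟨z', g', -, hz', hconj'⟩ := exists_fused Spor.M22 (q := 7) seven_facts.1 seven_facts.2.1
    seven_facts.2.2.1 seven_facts.2.2.2.1 seven_facts.2.2.2.2.1 fun l hl σ hσ t =>
      mem_M22_of hσ t (List.all_eq_true.1 seven_facts.2.2.2.2.2 l hl)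
  -- the elements of order 1, 5, 7
  have split : ∀ s : ℤ, ∀ L5 L7 : ℝ,
      L5 ≤ ∑ a ∈ Finset.univ.filter (fun a : Spor.M22 => orderOf a = 5),
        ‖(χ : Spor.M22 → ℂ) a + s‖ ^ 2 →
      L7 ≤ ∑ a ∈ Finset.univ.filter (fun a : Spor.M22 => orderOf a = 7),
        ‖(χ : Spor.M22 → ℂ) a + s‖ ^ 2 →
      (((d : ℤ) + s : ℤ) : ℝ) ^ 2 + L5 + L7 ≤
        ∑ a : Spor.M22, ‖(χ : Spor.M22 → ℂ) a + s‖ ^ 2 := by
    intro s L5 L7 h5 h7
    have h := sum_pieces_le (Finset.univ : Finset (Fin 3))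
      (fun i => Finset.univ.filter fun a : Spor.M22 => orderOf a = [1, 5, 7][i.val]'(by simp))
      (fun i _ j _ hij => by
        rw [Finset.disjoint_filter]
        intro a _ hi hj
        fin_cases i <;> fin_cases j <;> simp_all)
      (fun a => ‖(χ : Spor.M22 → ℂ) a + s‖ ^ 2) fun a => sq_nonneg _
    rw [Fin.sum_univ_three] at h
    have h1 : ∑ a ∈ Finset.univ.filter (fun a : Spor.M22 => orderOf a = 1),
        ‖(χ : Spor.M22 → ℂ) a + s‖ ^ 2 = (((d : ℤ) + s : ℤ) : ℝ) ^ 2 := by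
      rw [show Finset.univ.filter (fun a : Spor.M22 => orderOf a = 1) = {1} by ext a; simp,
        Finset.sum_singleton, hone]
    simp only [Fin.val_zero, Fin.val_one, Fin.val_two, List.getElem_cons_zero,
      List.getElem_cons_succ] at h
    linarith
  have hm7 : 21120 ≤ Nat.card (Sylow 7 Spor.M22) := sylow_seven_M22 hz'
  have hm5 : 22176 ≤ Nat.card (Sylow 5 Spor.M22) := sylow_five_M22 hz
  have hq7 : ¬ 7 ^ 2 ∣ Nat.card Spor.M22 := by rw [card_M22]; norm_num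
  have hq5 : ¬ 5 ^ 2 ∣ Nat.card Spor.M22 := by rw [card_M22]; norm_num
  have hcases : d = 128 ∨ d = 384 ∨ d = 640 := by
    obtain ⟨m, hm⟩ := h128
    rw [hm] at hdvd hd666 hd0 ⊢
    have : m ≤ 5 := by nlinarith
    interval_cases m <;> omega
  have h0 : (0 : ℝ) ≤ ∑ a ∈ Finset.univ.filter (fun a : Spor.M22 => orderOf a = 5),
      ‖(χ : Spor.M22 → ℂ) a + ((0 : ℤ) : ℂ)‖ ^ 2 := Finset.sum_nonneg fun a _ => sq_nonneg _
  have htot0 : ∑ a : Spor.M22, ‖(χ : Spor.M22 → ℂ) a + ((0 : ℤ) : ℂ)‖ ^ 2 = 443520 := by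
    simpa using htot
  rcases hcases with h | h | h
  · have h7 := part_lower hq7 χ 0 hz' hconj' 24 (fun m hm hs => by
      rw [← hd, h] at hs
      exact seven_bound m hm (Or.inl ⟨by simpa using hs, rfl⟩)) hm7
    have := (split 0 _ _ h0 h7).trans_eq htot0
    rw [h] at this
    norm_num at this
  · have h5 := part_lower hq5 χ (-1) hz hconj 16 (fun m hm hs => by
      rw [← hd, h] at hs
      exact five_bound m hm (by simpa using hs)) hm5
    have h7 := part_lower hq7 χ (-1) hz' hconj' 24 (fun m hm hs => by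
      rw [← hd, h] at hs
      exact seven_bound m hm (Or.inr (Or.inl ⟨by simpa using hs, rfl⟩))) hm7
    have htot1 : ∑ a : Spor.M22, ‖(χ : Spor.M22 → ℂ) a + ((-1 : ℤ) : ℂ)‖ ^ 2 = 887040 := by
      simp only [Int.cast_neg, Int.cast_one, ← sub_eq_add_neg]
      rw [total_norm_sub_one χ (by omega), card_M22]; norm_num
    have := (split (-1) _ _ h5 h7).trans_eq htot1
    rw [h] at this
    norm_num at this
  · have h7 := part_lower hq7 χ 0 hz' hconj' 12 (fun m hm hs => by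
      rw [← hd, h] at hs
      exact seven_bound m hm (Or.inr (Or.inr ⟨by simpa using hs, rfl⟩))) hm7
    have := (split 0 _ _ h0 h7).trans_eq htot0
    rw [h] at this
    norm_num at this

end Cfsg.Agent.TwoBlocks
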