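import Cfsg.Agent.TwoBlocks.DegreeBasic
import Cfsg.Agent.Lib.CharCore.ModP
import Cfsg.Agent.Lib.CharClifford.Galois
import Cfsg.Agent.Blocks88.Basic

/-!
Elements of order `3q`: either a character vanishes on none of them, or its values on the
elements of order `q` are divisible by 3.
-/

set_option autoImplicit false

open scoped ComplexConjugate

namespace Cfsg.Agent.TwoBlocks

open Cfsg CharCore

variable {G : Type*} [Group G] [Fintype G] {q : ℕ} [Fact q.Prime]

theorem cube_sub_modP {ι : Type*} (s : Finset ι) (μ : ι → ℂ)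
    (h : ∀ i ∈ s, IsIntegral ℤ (μ i)) :
    ModP 3 ((∑ i ∈ s, μ i) ^ 3 - ∑ i ∈ s, μ i ^ 3) := by
  classical
  induction s using Finset.induction with
  | empty => simpa using ModP.zero
  | insert a s ha ih =>
    have h' : ∀ i ∈ s, IsIntegral ℤ (μ i) := fun i hi => h i (Finset.mem_insert_of_mem hi)
    have hS : IsIntegral ℤ (∑ i ∈ s, μ i) := IsIntegral.sum _ h'
    have hA : IsIntegral ℤ (μ a) := h a (Finset.mem_insert_self a s)
    have h3 : ModP 3 (3 * (μ a ^ 2 * (∑ i ∈ s, μ i) + μ a * (∑ i ∈ s, μ i) ^ 2)) :=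
      ⟨_, ((hA.pow 2).mul hS).add (hA.mul (hS.pow 2)), by norm_num⟩
    convert h3.add (ih h') using 1
    rw [Finset.sum_insert ha, Finset.sum_insert ha]
    ring

omit [Fintype G] in
/-- The elements `z ^ j * y` have order `3q`, and distinct triples give distinct elements. -/
theorem card_composite [Fintype G] [DecidableEq G] (hq : ¬ q ^ 2 ∣ Nat.card G) (hq3 : q ≠ 3)
    {z : G} (hz : orderOf z = q) (Y : Finset G) (hY : ∀ y ∈ Y, Commute y z ∧ orderOf y = 3) :
    Nat.card (Sylow q G) * (q - 1) * Y.card ≤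
      (Finset.univ.filter fun g : G => orderOf g = 3 * q).card := by
  obtain ⟨P0, hP0⟩ := Golay.zpowers_sylow hq hz
  have hcg : ∀ P : Sylow q G, ∃ c : G, c • P0 = P := fun P => MulAction.exists_smul_eq G P0 P
  choose c hc using hcg
  have hmem : ∀ (P : Sylow q G) (g : G), g ∈ (P : Subgroup G) ↔
      (c P)⁻¹ * g * c P ∈ Subgroup.zpowers z := fun P g => by
    conv_lhs => rw [← hc P]
    rw [Sylow.coe_subgroup_smul, hP0, Subgroup.mem_pointwise_smul_iff_inv_smul_mem,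
      ← map_inv, MulAut.smul_def, MulAut.conj_apply, inv_inv]
  have hqp : q.Prime := Fact.out
  have hcop : Nat.Coprime q 3 :=
    hqp.coprime_iff_not_dvd.2 fun h => hq3 ((Nat.prime_dvd_prime_iff_eq hqp Nat.prime_three).1 h)
  obtain ⟨e, he1, he3⟩ := Nat.chineseRemainder hcop 1 0
  obtain ⟨e', he0, he1'⟩ := Nat.chineseRemainder hcop 0 1
  have hzq : ∀ {a b : ℕ}, a ≡ b [MOD q] → z ^ a = z ^ b := fun h =>
    pow_eq_pow_iff_modEq.2 (by rwa [hz])
  have hy3 : ∀ {y : G}, y ∈ Y → ∀ {a b : ℕ}, a ≡ b [MOD 3] → y ^ a = y ^ b := fun hy _ _ h =>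
    pow_eq_pow_iff_modEq.2 (by rwa [(hY _ hy).2])
  have hjz : ∀ j : ZMod q, j ≠ 0 → orderOf (z ^ j.val) = q := fun j hj => by
    have : Nat.Coprime (orderOf z) j.val := by
      rw [hz, hqp.coprime_iff_not_dvd]
      intro h
      exact hj (by rw [← ZMod.natCast_zmod_val j, (ZMod.natCast_eq_zero_iff _ _).2 h])
    rw [this.orderOf_pow, hz]
  have hcard : ((Finset.univ : Finset (Sylow q G)) ×ˢ
      ((Finset.univ.erase (0 : ZMod q)) ×ˢ Y)).card = Nat.card (Sylow q G) * (q - 1) * Y.card := by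
    rw [Finset.card_product, Finset.card_product, Finset.card_univ, ← Nat.card_eq_fintype_card,
      Finset.card_erase_of_mem (Finset.mem_univ _), Finset.card_univ, ZMod.card, mul_assoc]
  rw [← hcard]
  refine Finset.card_le_card_of_injOn
    (fun t => c t.1 * (z ^ t.2.1.val * t.2.2) * (c t.1)⁻¹) ?_ ?_
  · rintro ⟨P, j, y⟩ ht
    simp only [Finset.coe_product, Set.mem_prod, Finset.mem_coe, Finset.mem_erase] at ht
    obtain ⟨-, ⟨hj, -⟩, hy⟩ := ht
    have hcom : Commute (z ^ j.val) y := ((hY y hy).1.symm).pow_left _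
    simp only [Finset.coe_filter, Finset.mem_univ, true_and, Set.mem_setOf_eq]
    rw [show c P * (z ^ j.val * y) * (c P)⁻¹ = MulAut.conj (c P) (z ^ j.val * y) from rfl,
      MulEquiv.orderOf_eq, hcom.orderOf_mul_eq_mul_orderOf_of_coprime (by
        rw [hjz j hj, (hY y hy).2]; exact hcop), hjz j hj, (hY y hy).2, mul_comm]
  · rintro ⟨P, j, y⟩ ht ⟨P', j', y'⟩ ht' heq
    simp only [Finset.coe_product, Set.mem_prod, Finset.mem_coe, Finset.mem_erase] at ht ht'
    obtain ⟨-, ⟨hj, -⟩, hy⟩ := ht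
    obtain ⟨-, ⟨hj', -⟩, hy'⟩ := ht'
    simp only at heq
    have key : ∀ (P : Sylow q G) (j : ZMod q) (y : G), y ∈ Y →
        (c P * (z ^ j.val * y) * (c P)⁻¹) ^ e = c P * z ^ j.val * (c P)⁻¹ := fun P j y hy => by
      rw [conj_pow, ((hY y hy).1.symm.pow_left j.val).mul_pow, ← pow_mul,
        hzq (show j.val * e ≡ j.val [MOD q] by simpa using Nat.ModEq.mul_left j.val he1),
        hy3 hy he3, pow_zero, mul_one]
    have h1 := congrArg (· ^ e) heq
    simp only [key P j y hy, key P' j' y' hy'] at h1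
    have hgen : ∀ (P : Sylow q G) (j : ZMod q), j ≠ 0 →
        (P : Subgroup G) = Subgroup.zpowers (c P * z ^ j.val * (c P)⁻¹) := fun P j hj => by
      refine (Subgroup.eq_of_le_of_card_ge (Subgroup.zpowers_le.2 ((hmem P _).2 ?_)) ?_).symm
      · simpa [mul_assoc] using Subgroup.npow_mem_zpowers z j.val
      · rw [Nat.card_zpowers, show c P * z ^ j.val * (c P)⁻¹ = MulAut.conj (c P) (z ^ j.val)
          from rfl, MulEquiv.orderOf_eq, hjz j hj]
        conv_lhs => rw [← hc P]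
        rw [Sylow.coe_subgroup_smul, ← Nat.card_congr (Subgroup.equivSMul _ _).toEquiv, hP0,
          Nat.card_zpowers, hz]
    have hPP : P = P' := Sylow.ext ((hgen P j hj).trans (by rw [h1, ← hgen P' j' hj']))
    subst hPP
    simp only [mul_left_inj, mul_right_inj] at h1 heq
    have hjj : j = j' := ZMod.val_injective q (pow_injOn_Iio_orderOf (x := z)
      (by rw [hz]; exact ZMod.val_lt j) (by rw [hz]; exact ZMod.val_lt j') h1)
    subst hjj
    rw [mul_right_inj] at heq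
    rw [heq]

/-- The alternative. -/
theorem composite_or (hq : ¬ q ^ 2 ∣ Nat.card G) (hq3 : q ≠ 3) (χ : IrrCharacter G) {z : G}
    (hz : orderOf z = q) :
    (((Finset.univ.filter fun g : G => orderOf g = 3 * q).card : ℝ) ≤
        ∑ g ∈ Finset.univ.filter (fun g : G => orderOf g = 3 * q), ‖(χ : G → ℂ) g‖ ^ 2) ∨
      ∀ m : ZMod q → ℤ, (∀ j : ZMod q, ft m j = (χ : G → ℂ) (z ^ j.val) + ((0 : ℤ) : ℂ)) →
        (9 : ℤ) ∣ (q : ℤ) * ∑ i, m i ^ 2 - (∑ i, m i) ^ 2 := by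
  classical
  obtain ⟨r, ρ, hρ, hρχ⟩ := χ.2
  set S := Finset.univ.filter fun g : G => orderOf g = 3 * q with hS
  have hn0 : 3 * q ≠ 0 := mul_ne_zero (by norm_num) (Fact.out : q.Prime).ne_zero
  by_cases h0 : ∀ g ∈ S, (χ : G → ℂ) g ≠ 0
  · left
    have key := Blocks88.card_le_sum_norm S (fun g => (χ : G → ℂ) g ^ 2)
      (fun g _ => (CharClifford.isIntegral_of_isIrrCharacter χ.2 g).pow 2)
      (fun g hg => pow_ne_zero _ (h0 g hg)) fun σ => ?_
    · simpa [norm_pow] using key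
    obtain ⟨k, hk, hσ⟩ := CharClifford.exists_pow_of_ringHom σ hn0
    refine ⟨fun g => g ^ k, fun g hg => ?_, fun a ha b hb h => ?_, fun g hg => ?_⟩
    · simp only [hS, Finset.mem_filter, Finset.mem_univ, true_and] at hg ⊢
      rw [Nat.Coprime.orderOf_pow (by rw [hg]; exact hk.symm), hg]
    · simp only [hS, Finset.coe_filter, Finset.mem_univ, true_and, Set.mem_setOf_eq] at ha hb
      obtain ⟨i, -, hi⟩ := Nat.exists_mul_mod_eq_one_of_coprime hk (by
        have := (Fact.out : q.Prime).two_le; omega)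
      have e : ∀ a : G, orderOf a = 3 * q → (a ^ k) ^ i = a := fun a ha => by
        rw [← pow_mul, ← pow_mod_orderOf, ha, hi, pow_one]
      rw [← e a ha, ← e b hb]
      exact congrArg (· ^ i) h
    · simp only [hS, Finset.mem_filter, Finset.mem_univ, true_and] at hg
      simp only [map_pow, ← hρχ]
      rw [CharClifford.map_character ρ σ g hn0 (hg ▸ pow_orderOf_eq_one g) hσ]
  · right
    push Not at h0
    obtain ⟨g, hg, hg0⟩ := h0
    simp only [hS, Finset.mem_filter, Finset.mem_univ, true_and] at hg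
    intro m hm
    have hqp : q.Prime := Fact.out
    have hcop : Nat.Coprime q 3 :=
      hqp.coprime_iff_not_dvd.2 fun h => hq3 ((Nat.prime_dvd_prime_iff_eq hqp Nat.prime_three).1 h)
    have hz' : orderOf (g ^ 3) = q := by
      rw [orderOf_pow' _ (by norm_num : 3 ≠ 0), hg, Nat.gcd_mul_right_left,
        Nat.mul_div_cancel_left _ (by norm_num : 0 < 3)]
    obtain ⟨m', hm'⟩ := exists_mult χ.2 0 hz'
    -- the values on the powers of `g ^ 3` are multiples of 3
    have hdiv : ∀ j : ZMod q, j ≠ 0 → ModP 3 ((χ : G → ℂ) ((g ^ 3) ^ j.val)) := by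
      intro j hj
      obtain ⟨i, hi1, hi3⟩ := Nat.chineseRemainder hcop j.val 1
      have hic : Nat.Coprime i (3 * q) := by
        refine Nat.Coprime.mul_right ?_ ?_
        · rw [Nat.coprime_comm, Nat.prime_three.coprime_iff_not_dvd]
          intro h; rw [Nat.ModEq, Nat.mod_eq_zero_of_dvd h] at hi3; simp at hi3
        · rw [Nat.coprime_comm, hqp.coprime_iff_not_dvd]
          intro h
          apply hj
          rw [← ZMod.natCast_zmod_val j, ZMod.natCast_eq_zero_iff]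
          exact Nat.modEq_zero_iff_dvd.1 (hi1.symm.trans (Nat.modEq_zero_iff_dvd.2 h))
      obtain ⟨σ, hσ⟩ := CharClifford.exists_ringHom_pow hn0 hic
      have hgi : (χ : G → ℂ) (g ^ i) = 0 := by
        rw [← hρχ, ← CharClifford.map_character ρ σ g hn0 (hg ▸ pow_orderOf_eq_one g) hσ, hρχ,
          hg0, map_zero]
      obtain ⟨b, μ, hμ, -, hpow⟩ := CharClifford.exists_eigenvalues ρ g hn0
        (hg ▸ pow_orderOf_eq_one g)
      have hint : ∀ l ∈ (Finset.univ : Finset _), IsIntegral ℤ (μ l ^ i) := fun l _ =>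
        (IsIntegral.of_pow (Nat.pos_of_ne_zero hn0) (by rw [hμ]; exact isIntegral_one)).pow i
      have h3 := cube_sub_modP Finset.univ (fun l => μ l ^ i) hint
      have e1 : ∑ l, μ l ^ i = 0 := by rw [← hpow, hρχ, hgi]
      have e2 : ∑ l, (μ l ^ i) ^ 3 = (χ : G → ℂ) ((g ^ 3) ^ j.val) := by
        have e3 : (g ^ 3) ^ j.val = (g ^ 3) ^ i :=
          pow_eq_pow_iff_modEq.2 (by rw [hz']; exact hi1.symm)
        rw [e3, ← pow_mul, ← hρχ, hpow]
        exact Finset.sum_congr rfl fun l _ => by rw [← pow_mul, mul_comm]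
      rw [e1, e2] at h3
      simpa using h3.neg
    choose w hw hwe using hdiv
    -- the two sums agree
    have hE : ∀ (y : G) (n : ZMod q → ℤ), orderOf y = q →
        (∀ j : ZMod q, ft n j = (χ : G → ℂ) (y ^ j.val) + ((0 : ℤ) : ℂ)) →
        ∑ a ∈ Finset.univ.filter (fun a : G => orderOf a = q),
            ‖(χ : G → ℂ) a + ((0 : ℤ) : ℂ)‖ ^ 2 =
          (Nat.card (Sylow q G) : ℝ) *
            (((q : ℤ) * ∑ i, n i ^ 2 - (∑ i, n i) ^ 2 : ℤ) : ℝ) := fun y n hy hn => by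
      rw [sum_order_eq hq (fun a => ‖(χ : G → ℂ) a + ((0 : ℤ) : ℂ)‖ ^ 2) (norm_add_conj χ _) hy,
        energy_eq n 0 hn]
      push_cast
      ring
    have hEE := (hE z m hz hm).symm.trans (hE _ m' hz' hm')
    have hEq : ((q : ℤ) * ∑ i, m i ^ 2 - (∑ i, m i) ^ 2) =
        ((q : ℤ) * ∑ i, m' i ^ 2 - (∑ i, m' i) ^ 2) := by
      exact_mod_cast mul_left_cancel₀ (Nat.cast_ne_zero.2 Nat.card_pos.ne') hEE
    rw [hEq]
    refine (modP_intCast_iff (p := 9)).1 ?_
    refine ⟨∑ j ∈ (Finset.univ.erase (0 : ZMod q)).attach,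
      w j.1 (Finset.ne_of_mem_erase j.2) * conj (w j.1 (Finset.ne_of_mem_erase j.2)),
      IsIntegral.sum _ fun j _ => (hw _ _).mul (map_isIntegral_int (starRingEnd ℂ) (hw _ _)), ?_⟩
    have h := energy_eq m' 0 hm'
    have h' : (((q : ℤ) * ∑ i, m' i ^ 2 - (∑ i, m' i) ^ 2 : ℤ) : ℂ) =
        ((∑ j ∈ Finset.univ.erase (0 : ZMod q),
          ‖(χ : G → ℂ) ((g ^ 3) ^ j.val) + ((0 : ℤ) : ℂ)‖ ^ 2 : ℝ) : ℂ) := by
      rw [h]; push_cast; ring
    rw [h', ← Finset.sum_attach (Finset.univ.erase (0 : ZMod q)), Finset.mul_sum, Complex.ofReal_sum]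
    refine Finset.sum_congr rfl fun j _ => ?_
    rw [Int.cast_zero, add_zero, ← Complex.normSq_eq_norm_sq, ← Complex.mul_conj,
      hwe _ (Finset.ne_of_mem_erase j.2), map_mul, map_natCast]
    push_cast
    ring

/-- A lower bound for the elements of order `q` when the values are divisible by 3. -/
theorem part_lower_nine (hq : ¬ q ^ 2 ∣ Nat.card G) (χ : IrrCharacter G) {z g : G}
    (hz : orderOf z = q) (hconj : g * z * g⁻¹ = z ^ 2)
    (h9 : ∀ m : ZMod q → ℤ, (∀ j : ZMod q, ft m j = (χ : G → ℂ) (z ^ j.val) + ((0 : ℤ) : ℂ)) →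
      (9 : ℤ) ∣ (q : ℤ) * ∑ i, m i ^ 2 - (∑ i, m i) ^ 2) (L : ℕ)
    (hL : ∀ m : ZMod q → ℤ, (∀ i, m (2 * i) = m i) →
      ∑ i, m i = (charDegree (χ : G → ℂ) : ℤ) + 0 →
      (9 : ℤ) ∣ (q : ℤ) * ∑ i, m i ^ 2 - (∑ i, m i) ^ 2 →
      (L : ℤ) ≤ (q : ℤ) * ∑ i, m i ^ 2 - (∑ i, m i) ^ 2)
    {n0 : ℕ} (hn : n0 ≤ Nat.card (Sylow q G)) :
    ((n0 * L : ℕ) : ℝ) ≤
      ∑ a ∈ Finset.univ.filter (fun a : G => orderOf a = q),
        ‖(χ : G → ℂ) a + ((0 : ℤ) : ℂ)‖ ^ 2 := by
  classical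
  obtain ⟨m, hm⟩ := exists_mult χ.2 0 hz
  have hinv : ∀ i, m (2 * i) = m i := fun i => by
    simpa using mult_inv (CharCore.irr_isClassFunction χ) m 0 hz hm hconj i
  have hsum : ∑ i, m i = (charDegree (χ : G → ℂ) : ℤ) + 0 := by
    have h := hm 0
    rw [ZMod.val_zero, pow_zero, one_eq_charDegree] at h
    simp [ft] at h
    rw [add_zero]
    exact_mod_cast h
  rw [sum_order_eq hq (fun a => ‖(χ : G → ℂ) a + ((0 : ℤ) : ℂ)‖ ^ 2) (norm_add_conj χ _) hz,
    energy_eq m 0 hm, Nat.cast_mul]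
  have hLR : (L : ℝ) ≤ (q : ℝ) * ∑ i, (m i : ℝ) ^ 2 - ((∑ i, m i : ℤ) : ℝ) ^ 2 := by
    exact_mod_cast hL m hinv hsum (h9 m hm)
  exact mul_le_mul (Nat.cast_le.2 hn) hLR (Nat.cast_nonneg L) (Nat.cast_nonneg _)

end Cfsg.Agent.TwoBlocks
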