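import Cfsg.Agent.TwoBlocks.FormsM24
import Cfsg.Agent.TwoBlocks.Composite
import Cfsg.Agent.Sporadic96.M24.Seven

/-!
No irreducible character of `M₂₄` has 2-defect zero.
-/

set_option autoImplicit false

namespace Cfsg.Agent.TwoBlocks

open Cfsg Cfsg.Agent.Golay

local instance : Fact (Nat.Prime 5) := ⟨by norm_num⟩
local instance : Fact (Nat.Prime 7) := ⟨by norm_num⟩
local instance : Fact (Nat.Prime 11) := ⟨by norm_num⟩
local instance : Fact (Nat.Prime 23) := ⟨by norm_num⟩

theorem fixes_empty : ∀ g ∈ Cfsg.M24, ∀ p ∈ (∅ : Finset GolayPt), g p = p := by simp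

theorem sylow_twentythree_M24 {z : Cfsg.M24} (hz : orderOf z = 23) :
    967680 ≤ Nat.card (Sylow 23 Cfsg.M24) := by
  have hf : (fixedPts z.1).card = 1 :=
    card_fixedPts_twentythree z.2 ((Subgroup.orderOf_coe z).trans hz)
  obtain ⟨a, b, hab, ha, hb, -⟩ := card_centralizer_dvd Cfsg.M24 le_rfl z hz (by rw [hf]; norm_num)
    ∅ fixes_empty
  rw [Finset.sdiff_empty, hf] at hb
  rw [hf] at ha
  obtain ⟨k, hk, hn, hmod⟩ := card_sylow_mul (c := 1) (by rw [card_M24]; norm_num) hz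
    (by rw [hab]; exact Nat.mul_dvd_mul ha hb |>.trans (by decide))
  rw [card_M24] at hn
  have hmem : k ∈ Nat.divisors 22 := Nat.mem_divisors.2 ⟨hk, by norm_num⟩
  rw [show Nat.divisors 22 = {1, 2, 11, 22} by decide +kernel] at hmem
  simp only [Finset.mem_insert, Finset.mem_singleton] at hmem
  rcases hmem with rfl | rfl | rfl | rfl <;> omega

theorem sylow_eleven_M24 {z : Cfsg.M24} (hz : orderOf z = 11) :
    2225664 ≤ Nat.card (Sylow 11 Cfsg.M24) := by
  have hf : (fixedPts z.1).card = 2 :=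
    card_fixedPts_eleven z.2 ((Subgroup.orderOf_coe z).trans hz)
  obtain ⟨a, b, hab, ha, hb, -⟩ := card_centralizer_dvd Cfsg.M24 le_rfl z hz (by rw [hf]; norm_num)
    ∅ fixes_empty
  rw [Finset.sdiff_empty, hf] at hb
  rw [hf] at ha
  obtain ⟨k, hk, hn, hmod⟩ := card_sylow_mul (c := 4) (by rw [card_M24]; norm_num) hz
    (by rw [hab]; exact Nat.mul_dvd_mul ha hb |>.trans (by decide))
  rw [card_M24] at hn
  have hmem : k ∈ Nat.divisors 40 := Nat.mem_divisors.2 ⟨hk, by norm_num⟩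
  rw [show Nat.divisors 40 = {1, 2, 4, 5, 8, 10, 20, 40} by decide +kernel] at hmem
  simp only [Finset.mem_insert, Finset.mem_singleton] at hmem
  rcases hmem with rfl | rfl | rfl | rfl | rfl | rfl | rfl | rfl <;> omega

theorem sylow_five_M24 {z : Cfsg.M24} (hz : orderOf z = 5) :
    1020096 ≤ Nat.card (Sylow 5 Cfsg.M24) := by
  have hf : (fixedPts z.1).card = 4 :=
    card_fixedPts_five z.2 ((Subgroup.orderOf_coe z).trans hz)
  obtain ⟨a, b, hab, ha, hb, h2⟩ := card_centralizer_dvd Cfsg.M24 le_rfl z hz (by rw [hf])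
    ∅ fixes_empty
  rw [Finset.sdiff_empty, hf] at hb
  rw [hf] at ha
  have hodd : ¬ 2 ∣ a := fun h => by
    obtain ⟨c, hc, hco, hcf⟩ := h2 h
    rcases card_fixedPts_involution hc hco with e | e <;> rw [hcf, hf] at e <;> omega
  have ha5 : a ∣ 5 := by
    have hcop : Nat.Coprime a (2 ^ 2) :=
      Nat.Coprime.pow_right _ ((Nat.prime_two.coprime_iff_not_dvd.2 hodd).symm)
    exact hcop.dvd_of_dvd_mul_left (show a ∣ 2 ^ 2 * 5 from ha)
  obtain ⟨k, hk, hn, hmod⟩ := card_sylow_mul (c := 24) (by rw [card_M24]; norm_num) hz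
    (by rw [hab]; exact Nat.mul_dvd_mul ha5 hb |>.trans (by decide))
  rw [card_M24] at hn
  have hmem : k ∈ Nat.divisors 96 := Nat.mem_divisors.2 ⟨hk, by norm_num⟩
  rw [show Nat.divisors 96 = {1, 2, 3, 4, 6, 8, 12, 16, 24, 32, 48, 96} by decide +kernel] at hmem
  simp only [Finset.mem_insert, Finset.mem_singleton] at hmem
  rcases hmem with rfl | rfl | rfl | rfl | rfl | rfl | rfl | rfl | rfl | rfl | rfl | rfl <;> omega

theorem sylow_seven_M24 {z : Cfsg.M24} (hz : orderOf z = 7) :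
    1943040 ≤ Nat.card (Sylow 7 Cfsg.M24) ∧
      ∃ Y : Finset Cfsg.M24, Y.card = 2 ∧ ∀ y ∈ Y, Commute y z ∧ orderOf y = 3 := by
  classical
  obtain ⟨h126, h42, -, -⟩ := Sporadic96.seven_normalizer (Subgroup.zpowers z)
    (by rw [Nat.card_zpowers, hz])
  refine ⟨?_, ?_⟩
  · obtain ⟨P, hP⟩ := zpowers_sylow (by rw [card_M24]; norm_num) hz
    rw [Sylow.card_eq_index_normalizer P]
    have h := (Subgroup.normalizer ((P : Subgroup Cfsg.M24) : Set Cfsg.M24)).card_mul_index
    rw [hP, h126, card_M24] at h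
    show 1943040 ≤ (Subgroup.normalizer ((P : Subgroup Cfsg.M24) : Set Cfsg.M24)).index
    rw [hP]
    omega
  · have : Fact (Nat.Prime 3) := ⟨Nat.prime_three⟩
    obtain ⟨y, hy⟩ := exists_prime_orderOf_dvd_card'
      (G := Subgroup.centralizer (Subgroup.zpowers z : Set Cfsg.M24)) 3 (by rw [h42]; norm_num)
    have hy1 : orderOf y.1 = 3 := (Subgroup.orderOf_coe y).trans hy
    have hc : Commute y.1 z :=
      (Subgroup.mem_centralizer_iff.1 y.2 z (Subgroup.mem_zpowers z)).symm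
    have hy2 : orderOf (y.1 ^ 2) = 3 := by
      rw [Nat.Coprime.orderOf_pow (by rw [hy1]; norm_num), hy1]
    refine ⟨{y.1, y.1 ^ 2}, Finset.card_pair fun e => ?_, fun x hx => ?_⟩
    · have h1 : y.1 = 1 := by
        rw [pow_two] at e
        exact (mul_eq_left.1 e.symm)
      rw [h1, orderOf_one] at hy1
      omega
    · simp only [Finset.mem_insert, Finset.mem_singleton] at hx
      rcases hx with rfl | rfl
      exacts [⟨hc, hy1⟩, ⟨hc.pow_left 2, hy2⟩]

theorem fifteen_witnesses {z : Cfsg.M24} (hz : Tab (z : Equiv.Perm GolayPt) fiveTab) :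
    ∃ Y : Finset Cfsg.M24, Y.card = 8 ∧ ∀ y ∈ Y, Commute y z ∧ orderOf y = 3 := by
  classical
  obtain ⟨hall, hnd, hlen⟩ := threeComm_facts
  simp only [List.all_eq_true, Bool.and_eq_true, Bool.or_eq_true, beq_iff_eq, bne_iff_ne] at hall
  have hex : ∀ l : {l // l ∈ threeComm}, ∃ σ : Cfsg.M24, Tab (σ : Equiv.Perm GolayPt) l.1 :=
    fun l => by
      obtain ⟨σ, hσ, t⟩ := exists_good (hall l.1 l.2).1.1.1
      exact ⟨⟨σ, hσ⟩, t⟩
  choose σ hσ using hex
  have hkey : ∀ l : {l // l ∈ threeComm},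
      (l.1.getD 0 0, l.1.getD 3 0) =
        (idx ((σ l : Equiv.Perm GolayPt) (pt 0)), idx ((σ l : Equiv.Perm GolayPt) (pt 3))) :=
    fun l => Prod.ext (hσ l 0 (by norm_num)).symm (hσ l 3 (by norm_num)).symm
  refine ⟨(Finset.univ : Finset {l // l ∈ threeComm}).image σ, ?_, ?_⟩
  · rw [Finset.card_image_of_injective _ fun a b e => Subtype.ext
      (List.inj_on_of_nodup_map hnd a.2 b.2 (by rw [hkey a, hkey b, e]))]
    rw [Finset.card_univ, Fintype.card_of_subtype threeComm.toFinset (fun l => List.mem_toFinset),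
      List.toFinset_card_of_nodup (hnd.of_map _), hlen]
  · intro y hy
    obtain ⟨⟨l, hl⟩, -, rfl⟩ := Finset.mem_image.1 hy
    obtain ⟨⟨⟨-, hp⟩, hne⟩, hc⟩ := hall l hl
    refine ⟨Subtype.ext (tab_unique ((hσ ⟨l, hl⟩).mul hz) (hc ▸ hz.mul (hσ ⟨l, hl⟩))), ?_⟩
    rw [← Subgroup.orderOf_coe]
    have : Fact (Nat.Prime 3) := ⟨Nat.prime_three⟩
    refine orderOf_eq_prime (tab_unique (hp ▸ (hσ ⟨l, hl⟩).pow 3) tab_one) fun e => ?_
    have t := hσ ⟨l, hl⟩
    rw [e] at t
    rcases hne with (h | h) | h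
    all_goals
      apply h
      rw [← t _ (by norm_num), Equiv.Perm.one_apply, idx_pt (by norm_num)]

set_option maxHeartbeats 1000000 in
theorem M24_degree (χ : IrrCharacter Cfsg.M24) :
    (charDegree (χ : Cfsg.M24 → ℂ)).factorization 2 < (Nat.card Cfsg.M24).factorization 2 := by
  classical
  have := Fintype.ofFinite Cfsg.M24
  set d := charDegree (χ : Cfsg.M24 → ℂ) with hd
  by_contra hlt
  push Not at hlt
  have hd0 : d ≠ 0 := fun e =>
    CharCore.irr_apply_one_ne_zero χ (by rw [one_eq_charDegree, ← hd, e]; simp)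
  have h1024 : 1024 ∣ d := by
    have h10 : 10 ≤ (Nat.card Cfsg.M24).factorization 2 :=
      (Nat.prime_two.pow_dvd_iff_le_factorization (by rw [card_M24]; norm_num)).1
        (by rw [card_M24]; norm_num)
    have := (Nat.prime_two.pow_dvd_iff_le_factorization hd0).2 (h10.trans hlt)
    simpa using this
  have hdvd : d ∣ 244823040 := card_M24 ▸ BlocksCore.charDegree_dvd_card χ
  let f : Cfsg.M24 → ℝ := fun a => ‖(χ : Cfsg.M24 → ℂ) a + ((0 : ℤ) : ℂ)‖ ^ 2
  have hfn : ∀ a, f a = ‖(χ : Cfsg.M24 → ℂ) a‖ ^ 2 := fun a => by simp [f]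
  have htot : ∑ a, f a = 244823040 := by
    rw [Finset.sum_congr rfl fun a _ => hfn a, total_norm, card_M24]; norm_num
  let part : ℕ → ℝ := fun n => ∑ a ∈ Finset.univ.filter (fun a : Cfsg.M24 => orderOf a = n), f a
  have hnn : ∀ n, 0 ≤ part n := fun n => Finset.sum_nonneg fun a _ => sq_nonneg _
  have hone : part 1 = (d : ℝ) ^ 2 := by
    simp only [part]
    rw [show Finset.univ.filter (fun a : Cfsg.M24 => orderOf a = 1) = {1} by ext a; simp,
      Finset.sum_singleton, hfn, one_eq_charDegree, ← hd, Complex.norm_natCast]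
  have hsum : part 1 + part 5 + part 7 + part 11 + part 23 + part 15 + part 21 ≤ 244823040 := by
    have h := sum_pieces_le (Finset.univ : Finset (Fin 7))
      (fun i => Finset.univ.filter fun a : Cfsg.M24 =>
        orderOf a = [1, 5, 7, 11, 23, 15, 21][i.val]'(by simp))
      (fun i _ j _ hij => by
        rw [Finset.disjoint_filter]
        intro a _ hi hj
        fin_cases i <;> fin_cases j <;> simp_all)
      f fun a => sq_nonneg _
    rw [htot, Fin.sum_univ_seven] at h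
    exact h
  have n1 := hnn 5; have n2 := hnn 7; have n3 := hnn 11; have n4 := hnn 23
  have n5' := hnn 15; have n6 := hnn 21
  have hd2 : (d : ℝ) ^ 2 ≤ 244823040 := by linarith
  have hd15646 : d ≤ 15646 := by
    by_contra h
    push Not at h
    have h' : (15647 : ℝ) ≤ d := by exact_mod_cast h
    nlinarith
  have hcases : d = 1024 ∨ d = 3072 ∨ d = 5120 ∨ d = 7168 ∨ d = 9216 ∨ d = 11264 ∨ d = 15360 := by
    obtain ⟨m, hm⟩ := h1024
    rw [hm] at hdvd hd15646 hd0 ⊢
    have : m ≤ 15 := by omega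
    interval_cases m <;> omega
  obtain ⟨z5, g5, t5, hz5, hc5⟩ := exists_fused Cfsg.M24 (q := 5) five_facts.1 five_facts.2.1
    five_facts.2.2.1 five_facts.2.2.2.1 five_facts.2.2.2.2.1 fun _ _ _ hσ _ => hσ
  obtain ⟨z7, g7, -, hz7, hc7⟩ := exists_fused Cfsg.M24 (q := 7) seven_facts.1 seven_facts.2.1
    seven_facts.2.2.1 seven_facts.2.2.2.1 seven_facts.2.2.2.2.1 fun _ _ _ hσ _ => hσ
  obtain ⟨z11, g11, -, hz11, hc11⟩ := exists_fused Cfsg.M24 (q := 11) eleven_facts.1
    eleven_facts.2.1 eleven_facts.2.2.1 eleven_facts.2.2.2.1 eleven_facts.2.2.2.2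
    fun _ _ _ hσ _ => hσ
  obtain ⟨z23, g23, -, hz23, hc23⟩ := exists_fused Cfsg.M24 (q := 23) twentythree_facts.1
    twentythree_facts.2.1 twentythree_facts.2.2.1 twentythree_facts.2.2.2.1
    twentythree_facts.2.2.2.2 fun _ _ _ hσ _ => hσ
  have hq5 : ¬ 5 ^ 2 ∣ Nat.card Cfsg.M24 := by rw [card_M24]; norm_num
  have hq7 : ¬ 7 ^ 2 ∣ Nat.card Cfsg.M24 := by rw [card_M24]; norm_num
  have hq11 : ¬ 11 ^ 2 ∣ Nat.card Cfsg.M24 := by rw [card_M24]; norm_num
  have hq23 : ¬ 23 ^ 2 ∣ Nat.card Cfsg.M24 := by rw [card_M24]; norm_num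
  have p11 : ∀ L : ℕ, (∀ m : ZMod 11 → ℤ, (∀ i, m (2 * i) = m i) → ∑ i, m i = (d : ℤ) + 0 →
      (L : ℤ) ≤ 11 * ∑ i, m i ^ 2 - (∑ i, m i) ^ 2) → ((2225664 * L : ℕ) : ℝ) ≤ part 11 :=
    fun L hL => part_lower hq11 χ 0 hz11 hc11 L hL (sylow_eleven_M24 hz11)
  have p23 : ∀ L : ℕ, (∀ m : ZMod 23 → ℤ, (∀ i, m (2 * i) = m i) → ∑ i, m i = (d : ℤ) + 0 →
      (L : ℤ) ≤ 23 * ∑ i, m i ^ 2 - (∑ i, m i) ^ 2) → ((967680 * L : ℕ) : ℝ) ≤ part 23 :=
    fun L hL => part_lower hq23 χ 0 hz23 hc23 L hL (sylow_twentythree_M24 hz23)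
  rcases hcases with h | h | h | h | h | h | h <;> rw [h] at hone <;> push_cast at hone
  · -- degree 1024
    have hs : ∀ {q : ℕ} [NeZero q] (m : ZMod q → ℤ), ∑ i, m i = (d : ℤ) + 0 → ∑ i, m i = 1024 :=
      fun m hm => by rw [hm, h]; norm_num
    have a11 := p11 10 fun m hm hm' => eleven_bound m hm (Or.inl ⟨hs m hm', rfl⟩)
    have a23 := p23 132 fun m hm hm' => twentythree_bound m hm (Or.inl ⟨hs m hm', rfl⟩)
    obtain ⟨hn7, Y7, hY7c, hY7⟩ := sylow_seven_M24 hz7
    obtain ⟨Y5, hY5c, hY5⟩ := fifteen_witnesses t5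
    have hn5 := sylow_five_M24 hz5
    have c15 := card_composite hq5 (by norm_num) hz5 Y5 hY5
    have c21 := card_composite hq7 (by norm_num) hz7 Y7 hY7
    rw [hY5c] at c15
    rw [hY7c] at c21
    have h5 : (36723456 : ℝ) ≤ part 5 + part 15 := by
      rcases composite_or hq5 (by norm_num) χ hz5 with hA | hB
      · have a5 : ((1020096 * 4 : ℕ) : ℝ) ≤ part 5 := part_lower hq5 χ 0 hz5 hc5 4
          (fun m hm hm' => (five_bound_1024 m hm (hs m hm')).1) hn5
        have a15 : ((32643072 : ℕ) : ℝ) ≤ part 15 :=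
          le_trans (Nat.cast_le.2 (le_trans (by omega) c15))
            (hA.trans_eq (Finset.sum_congr rfl fun a _ => (hfn a).symm))
        push_cast at a5 a15
        linarith
      · have a5 : ((1020096 * 36 : ℕ) : ℝ) ≤ part 5 := part_lower_nine hq5 χ hz5 hc5 hB 36
          (fun m hm hm' h9 => (five_bound_1024 m hm (hs m hm')).2 h9) hn5
        push_cast at a5
        linarith
    have h7 : (69949440 : ℝ) ≤ part 7 + part 21 := by
      rcases composite_or hq7 (by norm_num) χ hz7 with hA | hB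
      · have a7 : ((1943040 * 24 : ℕ) : ℝ) ≤ part 7 := part_lower hq7 χ 0 hz7 hc7 24
          (fun m hm hm' => (seven_bound_1024 m hm (hs m hm')).1) hn7
        have a21 : ((23316480 : ℕ) : ℝ) ≤ part 21 :=
          le_trans (Nat.cast_le.2 (le_trans (by omega) c21))
            (hA.trans_eq (Finset.sum_congr rfl fun a _ => (hfn a).symm))
        push_cast at a7 a21
        linarith
      · have a7 : ((1943040 * 108 : ℕ) : ℝ) ≤ part 7 := part_lower_nine hq7 χ hz7 hc7 hB 108
          (fun m hm hm' h9 => (seven_bound_1024 m hm (hs m hm')).2 h9) hn7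
        push_cast at a7
        linarith
    push_cast at a11 a23
    linarith
  · have a11 := p11 90 fun m hm hm' => eleven_bound m hm (by rw [hm', h]; norm_num)
    have a23 := p23 176 fun m hm hm' => twentythree_bound m hm (by rw [hm', h]; norm_num)
    push_cast at a11 a23
    linarith
  · have a11 := p11 250 fun m hm hm' => eleven_bound m hm (by rw [hm', h]; norm_num)
    push_cast at a11
    linarith
  · have a11 := p11 160 fun m hm hm' => eleven_bound m hm (by rw [hm', h]; norm_num)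
    push_cast at a11
    linarith
  · have a23 := p23 572 fun m hm hm' => twentythree_bound m hm (by rw [hm', h]; norm_num)
    push_cast at a23
    linarith
  · have a23 := p23 792 fun m hm hm' => twentythree_bound m hm (by rw [hm', h]; norm_num)
    push_cast at a23
    linarith
  · have a11 := p11 160 fun m hm hm' => eleven_bound m hm (by rw [hm', h]; norm_num)
    push_cast at a11
    linarith

end Cfsg.Agent.TwoBlocks
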