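import Cfsg.Agent.Lib.Golay.Fixed
import Cfsg.Agent.TwoBlocks.Energy

/-!
Sums over the elements of prime order, and bounds for normalisers of subgroups of prime order
in groups of permutations inside `M₂₄`.
-/

set_option autoImplicit false

namespace Cfsg.Agent.TwoBlocks

open Cfsg Cfsg.Agent.Golay

/-- A class function summed over the elements of prime order `q`, the Sylow subgroup having
order `q`. -/
theorem sum_order_eq {G : Type*} [Group G] [Fintype G] [DecidableEq G] {q : ℕ} [Fact q.Prime]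
    (hq : ¬ q ^ 2 ∣ Nat.card G) (f : G → ℝ) (hf : ∀ g h : G, f (h * g * h⁻¹) = f g) {z : G}
    (hz : orderOf z = q) :
    ∑ g ∈ Finset.univ.filter (fun g : G => orderOf g = q), f g =
      (Nat.card (Sylow q G) : ℝ) * ∑ j ∈ Finset.univ.erase (0 : ZMod q), f (z ^ j.val) := by
  classical
  obtain ⟨P0, hP0⟩ := zpowers_sylow hq hz
  have hcg : ∀ P : Sylow q G, ∃ c : G, c • P0 = P := fun P => MulAction.exists_smul_eq G P0 P
  choose c hc using hcg
  have hmem : ∀ (P : Sylow q G) (g : G), g ∈ (P : Subgroup G) ↔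
      (c P)⁻¹ * g * c P ∈ Subgroup.zpowers z := fun P g => by
    conv_lhs => rw [← hc P]
    rw [Sylow.coe_subgroup_smul, hP0, Subgroup.mem_pointwise_smul_iff_inv_smul_mem,
      ← map_inv, MulAut.smul_def, MulAut.conj_apply, inv_inv]
  let φ : Sylow q G × ZMod q → G := fun a => c a.1 * z ^ a.2.val * (c a.1)⁻¹
  have hφmem : ∀ a, φ a ∈ (a.1 : Subgroup G) := fun a => by
    rw [hmem]
    simpa [φ, mul_assoc] using Subgroup.npow_mem_zpowers z a.2.val
  have hord : ∀ a : Sylow q G × ZMod q, a.2 ≠ 0 → orderOf (φ a) = q := fun a ha => by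
    refine orderOf_eq_prime ?_ fun e => ha ?_
    · simp only [φ, conj_pow]
      rw [pow_right_comm, show z ^ q = 1 from hz ▸ pow_orderOf_eq_one z, one_pow, mul_one,
        mul_inv_cancel]
    · have h1 : z ^ a.2.val = 1 := by simpa [φ, mul_inv_eq_one] using e
      have h2 := orderOf_dvd_of_pow_eq_one h1
      rw [hz] at h2
      rw [← ZMod.natCast_zmod_val a.2, (ZMod.natCast_eq_zero_iff _ _).2 h2]
  have hsylcard : ∀ P : Sylow q G, Nat.card (P : Subgroup G) = q := fun P => by
    rw [← hc P, Sylow.coe_subgroup_smul, ← Nat.card_congr (Subgroup.equivSMul _ _).toEquiv, hP0,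
      Nat.card_zpowers, hz]
  rw [Nat.card_eq_fintype_card, ← Finset.card_univ,
    show ((Finset.univ : Finset (Sylow q G)).card : ℝ) *
        ∑ j ∈ Finset.univ.erase (0 : ZMod q), f (z ^ j.val) =
      ∑ a ∈ (Finset.univ : Finset (Sylow q G)) ×ˢ Finset.univ.erase (0 : ZMod q), f (φ a) by
      rw [Finset.sum_product, Finset.sum_congr rfl fun P _ =>
        Finset.sum_congr rfl fun j _ => hf (z ^ j.val) (c P), Finset.sum_const, nsmul_eq_mul]]
  refine (Finset.sum_bij (fun a _ => φ a) (fun a ha => ?_) (fun a ha b hb e => ?_) (fun g hg => ?_)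
    fun a _ => rfl).symm
  · simp only [Finset.mem_product, Finset.mem_univ, Finset.mem_erase, true_and, and_true] at ha
    simpa using hord a ha
  · simp only [Finset.mem_product, Finset.mem_univ, Finset.mem_erase, true_and, and_true] at ha hb
    have hzle : ∀ P : Sylow q G, φ a ∈ (P : Subgroup G) →
        (P : Subgroup G) = Subgroup.zpowers (φ a) := fun P h =>
      (Subgroup.eq_of_le_of_card_ge (Subgroup.zpowers_le.2 h)
        (by rw [hsylcard, Nat.card_zpowers, hord a ha])).symm
    have h1 : a.1 = b.1 := Sylow.ext ((hzle _ (hφmem a)).trans (hzle _ (e ▸ hφmem b)).symm)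
    refine Prod.ext h1 ?_
    simp only [φ, h1, mul_left_inj, mul_right_inj] at e
    apply ZMod.val_injective
    exact pow_injOn_Iio_orderOf (x := z) (by rw [hz]; exact ZMod.val_lt a.2)
      (by rw [hz]; exact ZMod.val_lt b.2) e
  · simp only [Finset.mem_filter, Finset.mem_univ, true_and] at hg
    obtain ⟨P, hP⟩ := zpowers_sylow hq hg
    have h1 := (hmem P g).1 (hP ▸ Subgroup.mem_zpowers g)
    rw [mem_zpowers_iff_mem_range_orderOf, hz] at h1
    obtain ⟨i, hi, hi'⟩ := Finset.mem_image.1 h1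
    rw [Finset.mem_range] at hi
    have hi'' : φ (P, (i : ZMod q)) = g := by
      simp only [φ, ZMod.val_cast_of_lt hi, hi']
      group
    refine ⟨(P, (i : ZMod q)), ?_, hi''⟩
    simp only [Finset.mem_product, Finset.mem_univ, Finset.mem_erase, true_and, and_true]
    intro h0
    rw [← hi''] at hg
    simp [φ, h0] at hg
    exact (Fact.out : q.Prime).one_lt.ne hg

/-- `n_q` from a bound for the normaliser. -/
theorem card_sylow_mul {G : Type*} [Group G] [Finite G] {q : ℕ} [Fact q.Prime]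
    (hq : ¬ q ^ 2 ∣ Nat.card G) {z : G} (hz : orderOf z = q) {c : ℕ}
    (hc : Nat.card (Subgroup.centralizer ({z} : Set G)) ∣ c * q) :
    ∃ k, k ∣ c * (q - 1) ∧ Nat.card (Sylow q G) * (k * q) = Nat.card G ∧
      Nat.card (Sylow q G) % q = 1 := by
  obtain ⟨P, hP⟩ := zpowers_sylow hq hz
  set N := Subgroup.normalizer ((P : Subgroup G) : Set G) with hN
  set C := Subgroup.centralizer ((P : Subgroup G) : Set G) with hC
  have hCz : C = Subgroup.centralizer ({z} : Set G) := by
    rw [hC, hP, Subgroup.zpowers_eq_closure, Subgroup.centralizer_closure]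
  have hCN : C ≤ N := Subgroup.centralizer_le_normalizer _
  have hker : Nat.card C * (C.subgroupOf N).index = Nat.card N := by
    rw [← Subgroup.card_mul_index (C.subgroupOf N),
      Nat.card_congr (Subgroup.subgroupOfEquivOfLe hCN).toEquiv]
  have hidx : (C.subgroupOf N).index ∣ q - 1 := by
    rw [hC, hN, ← Subgroup.normalizerMonoidHom_ker, Subgroup.index_ker]
    refine (Subgroup.card_subgroup_dvd_card _).trans (dvd_of_eq ?_)
    have : IsCyclic (P : Subgroup G) := by rw [hP]; infer_instance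
    rw [IsCyclic.card_mulAut, hP, Nat.card_zpowers, hz, Nat.totient_prime Fact.out]
  have hzC : q ∣ Nat.card C := by
    rw [← hz, ← Nat.card_zpowers, hCz]
    exact Subgroup.card_dvd_of_le (Subgroup.zpowers_le.2
      (Subgroup.mem_centralizer_iff.2 fun y hy => by rw [Set.mem_singleton_iff.1 hy]))
  obtain ⟨a, ha⟩ := hzC
  refine ⟨a * (C.subgroupOf N).index, Nat.mul_dvd_mul ?_ hidx, ?_, ?_⟩
  · rw [← hCz, ha, mul_comm c] at hc
    exact Nat.dvd_of_mul_dvd_mul_left (Fact.out : q.Prime).pos hc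
  · rw [Sylow.card_eq_index_normalizer P]
    show N.index * _ = _
    rw [show a * (C.subgroupOf N).index * q = Nat.card N by
      rw [← hker, ha]; ring, mul_comm, Subgroup.card_mul_index]
  · have h := card_sylow_modEq_one q G
    rw [Nat.ModEq, Nat.mod_eq_of_lt (Fact.out : q.Prime).one_lt] at h
    exact h

/-- A group acting freely on an invariant finite set has order dividing its size. -/
theorem card_dvd_of_free (K : Subgroup (Equiv.Perm GolayPt)) (S : Finset GolayPt)
    (hS : ∀ g ∈ K, ∀ p ∈ S, g p ∈ S) (hfree : ∀ g ∈ K, ∀ p ∈ S, g p = p → g = 1) :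
    Nat.card K ∣ S.card := by
  classical
  let A := {p // p ∈ S}
  let instA : MulAction K A :=
    { smul := fun g p => ⟨g.1 p.1, hS _ g.2 _ p.2⟩
      one_smul := fun p => Subtype.ext rfl
      mul_smul := fun g h p => Subtype.ext rfl }
  have hst : ∀ p : A, MulAction.stabilizer K p = ⊥ := fun p => by
    rw [Subgroup.eq_bot_iff_forall]
    intro g hg
    exact Subtype.ext (hfree _ g.2 _ p.2 (congrArg Subtype.val hg))
  have h := Nat.card_congr (MulAction.selfEquivOrbitsQuotientProd (G := K) (X := A) hst)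
  rw [Nat.card_prod] at h
  refine Dvd.intro_left _ (h.symm.trans ?_)
  rw [Nat.card_eq_fintype_card, Fintype.card_coe]

/-- The elements commuting with `x` that fix a point moved by `x` and all points fixed by `x`
are trivial. -/
theorem eq_one_of_commute {x c : Equiv.Perm GolayPt} {q : ℕ} [Fact q.Prime] (hxq : orderOf x = q)
    (h9 : 9 ≤ (fixedPts x).card + q) (hc : c ∈ Cfsg.M24) (hcomm : c * x = x * c)
    (hF : ∀ p ∈ fixedPts x, c p = p) {a : GolayPt} (ha : x a ≠ a) (hca : c a = a) : c = 1 := by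
  classical
  have hxa : ∀ k : ℕ, c ((x ^ k) a) = (x ^ k) a := fun k => by
    have h := DFunLike.congr_fun ((show Commute c x from hcomm).pow_right k).eq a
    rwa [Equiv.Perm.mul_apply, Equiv.Perm.mul_apply, hca] at h
  have hq0 : (x ^ q) a = a := by rw [← hxq, pow_orderOf_eq_one]; rfl
  have hinj : Set.InjOn (fun k => (x ^ k) a) (Finset.range q) := by
    intro j hj k hk hjk
    by_contra hne
    wlog hlt : j < k generalizing j k
    · exact this hk hj hjk.symm (Ne.symm hne) (by omega)
    simp only [Finset.coe_range, Set.mem_Iio] at hj hk hjk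
    have hd : (x ^ (k - j)) a = a := by
      apply (x ^ j).injective
      rw [← Equiv.Perm.mul_apply, ← pow_add, Nat.add_sub_cancel' hlt.le, hjk]
    have hcop : Nat.Coprime (k - j) (orderOf x) := by
      rw [hxq, Nat.coprime_comm, (Fact.out : q.Prime).coprime_iff_not_dvd]
      intro hd'
      have := Nat.le_of_dvd (by omega) hd'
      omega
    obtain ⟨m, hm⟩ := exists_pow_eq_self_of_coprime hcop
    have h := fixedPts_subset_pow (x ^ (k - j)) m (mem_fixedPts.2 hd)
    rw [hm, mem_fixedPts] at h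
    exact ha h
  refine eq_one_of_fixed hc (s := fixedPts x ∪ (Finset.range q).image fun k => (x ^ k) a) ?_ ?_
  · rw [Finset.card_union_of_disjoint, Finset.card_image_of_injOn hinj, Finset.card_range]
    · exact h9
    · rw [Finset.disjoint_right]
      intro p hp hp'
      obtain ⟨k, -, rfl⟩ := Finset.mem_image.1 hp
      rw [mem_fixedPts, ← Equiv.Perm.mul_apply, ← pow_succ', pow_succ, Equiv.Perm.mul_apply] at hp'
      exact ha ((x ^ k).injective hp')
  · intro p hp
    rcases Finset.mem_union.1 hp with hp | hp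
    · exact hF p hp
    · obtain ⟨k, -, rfl⟩ := Finset.mem_image.1 hp
      exact hxa k

/-- The centraliser of `x` in `H` has order dividing `j · m`, with `m` the number of moved
points and `j` the number of ways of permuting the fixed points of `x` not fixed by `H`. -/
theorem card_centralizer_dvd (H : Subgroup (Equiv.Perm GolayPt)) (hH : H ≤ Cfsg.M24) (x : H)
    {q : ℕ} [Fact q.Prime] (hxq : orderOf x = q) (h9 : 9 ≤ (fixedPts x.1).card + q)
    (F0 : Finset GolayPt) (hF0 : ∀ g ∈ H, ∀ p ∈ F0, g p = p) :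
    ∃ a b, Nat.card (Subgroup.centralizer ({x} : Set H)) = a * b ∧
      a ∣ 24 - (fixedPts x.1).card ∧ b ∣ (fixedPts x.1 \ F0).card.factorial ∧
      (2 ∣ a → ∃ c ∈ Cfsg.M24, orderOf c = 2 ∧ fixedPts c = fixedPts x.1) := by
  classical
  set C := Subgroup.centralizer ({x} : Set H) with hC
  set T := fixedPts x.1 \ F0 with hT
  have hcomm : ∀ c : C, c.1.1 * x.1 = x.1 * c.1.1 := fun c =>
    congrArg Subtype.val (Subgroup.mem_centralizer_iff.1 c.2 x rfl).symm
  have hfix : ∀ (c : C) (p : GolayPt), c.1.1 p ∈ fixedPts x.1 ↔ p ∈ fixedPts x.1 := fun c p => by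
    rw [mem_fixedPts, mem_fixedPts, ← Equiv.Perm.mul_apply, ← hcomm c, Equiv.Perm.mul_apply,
      c.1.1.apply_eq_iff_eq]
  have hinv : ∀ (c : C) (p : GolayPt), c.1.1 p ∈ T ↔ p ∈ T := fun c p => by
    rw [hT, Finset.mem_sdiff, Finset.mem_sdiff, hfix]
    refine and_congr_right fun _ => not_congr ⟨fun h => ?_, fun h => ?_⟩
    · have := c.1.1.injective ((hF0 _ c.1.2 _ h).trans rfl)
      exact this ▸ h
    · rw [hF0 _ c.1.2 _ h]; exact h
  let φ : C →* Equiv.Perm {p // p ∈ T} :=
    { toFun := fun c => c.1.1.subtypePerm (hinv c)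
      map_one' := by ext p; rfl
      map_mul' := fun c d => by ext p; rfl }
  let ι : C →* Equiv.Perm GolayPt := H.subtype.comp C.subtype
  let K := φ.ker.map ι
  have hKfix : ∀ g ∈ K, g ∈ Cfsg.M24 ∧ g * x.1 = x.1 * g ∧ ∀ p ∈ fixedPts x.1, g p = p := by
    rintro _ ⟨c, hc, rfl⟩
    refine ⟨hH c.1.2, hcomm c, fun p hp => ?_⟩
    by_cases h0 : p ∈ F0
    · exact hF0 _ c.1.2 _ h0
    · exact congrArg Subtype.val (DFunLike.congr_fun hc
        (⟨p, Finset.mem_sdiff.2 ⟨hp, h0⟩⟩ : {p // p ∈ T}))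
  have hfree : ∀ g ∈ K, ∀ p ∈ (fixedPts x.1)ᶜ, g p = p → g = 1 := fun g hg p hp hgp =>
    eq_one_of_commute ((Subgroup.orderOf_coe x).trans hxq) h9 (hKfix g hg).1 (hKfix g hg).2.1 (hKfix g hg).2.2
      (fun e => Finset.mem_compl.1 hp (mem_fixedPts.2 e)) hgp
  have hKS : ∀ g ∈ K, ∀ p ∈ (fixedPts x.1)ᶜ, g p ∈ (fixedPts x.1)ᶜ := by
    rintro _ ⟨c, hc, rfl⟩ p hp
    rw [Finset.mem_compl] at hp ⊢
    exact fun h => hp ((hfix c p).1 h)
  have hι : Function.Injective ι := fun a b h => Subtype.ext (Subtype.ext h)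
  refine ⟨Nat.card K, Nat.card φ.range, ?_, ?_, ?_, fun h2 => ?_⟩
  · rw [Subgroup.card_map_of_injective hι, ← Subgroup.index_ker, Subgroup.card_mul_index]
  · have h := card_dvd_of_free K _ hKS hfree
    rwa [Finset.card_compl, card_golayPt] at h
  · refine (Subgroup.card_subgroup_dvd_card _).trans (dvd_of_eq ?_)
    rw [Nat.card_perm, Nat.card_eq_fintype_card, Fintype.card_coe]
  · have : Fact (Nat.Prime 2) := ⟨Nat.prime_two⟩
    obtain ⟨g, hg⟩ := exists_prime_orderOf_dvd_card' 2 h2
    refine ⟨g.1, (hKfix _ g.2).1, (Subgroup.orderOf_coe g).trans hg, ?_⟩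
    ext p
    rw [mem_fixedPts]
    refine ⟨fun h => ?_, fun h => (hKfix _ g.2).2.2 p h⟩
    by_contra hp
    have h1 : g = 1 := Subtype.ext (hfree _ g.2 p (Finset.mem_compl.2 hp) h)
    rw [h1, orderOf_one] at hg
    omega

end Cfsg.Agent.TwoBlocks
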