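import Cfsg.Agent.TwoBlocks.Count
import Cfsg.Agent.Lib.BlocksCore.DefectZero
import Cfsg.Agent.Lib.Golay.Involutions

/-!
The basic inequalities for the degree arguments.
-/

set_option autoImplicit false

open scoped ComplexConjugate

namespace Cfsg.Agent.TwoBlocks

open Cfsg Cfsg.Agent.Golay

variable {G : Type*} [Group G] [Fintype G]

theorem one_eq_charDegree (χ : IrrCharacter G) :
    (χ : G → ℂ) 1 = (charDegree (χ : G → ℂ) : ℂ) := BlocksCore.irr_one_eq χ

theorem total_norm (χ : IrrCharacter G) :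
    ∑ g : G, ‖(χ : G → ℂ) g‖ ^ 2 = (Nat.card G : ℝ) := by
  have h := CharCore.classInner_irr_self χ
  rw [CharCore.classInner_def, inv_mul_eq_one₀ (Nat.cast_ne_zero.2 Nat.card_pos.ne')] at h
  simp only [Complex.mul_conj, Complex.normSq_eq_norm_sq] at h
  exact_mod_cast h.symm

theorem total_norm_sub_one (χ : IrrCharacter G) (h1 : charDegree (χ : G → ℂ) ≠ 1) :
    ∑ g : G, ‖(χ : G → ℂ) g - 1‖ ^ 2 = 2 * (Nat.card G : ℝ) := by
  classical
  let one : IrrCharacter G := ⟨1, CharCore.isIrrCharacter_one⟩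
  have hne : χ ≠ one := fun e => h1 (by rw [e]; simp [charDegree, one])
  have h := CharCore.classInner_irr χ one
  rw [if_neg hne, CharCore.classInner_def, mul_eq_zero] at h
  have h0 : ∑ g : G, (χ : G → ℂ) g = 0 := by
    simpa [one] using h.resolve_left (inv_ne_zero (Nat.cast_ne_zero.2 Nat.card_pos.ne'))
  have hre : ∑ g : G, ((χ : G → ℂ) g).re = 0 := by rw [← Complex.re_sum, h0]; rfl
  have e : ∀ g : G, ‖(χ : G → ℂ) g - 1‖ ^ 2 =
      ‖(χ : G → ℂ) g‖ ^ 2 + (1 - 2 * ((χ : G → ℂ) g).re) := fun g => by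
    rw [← Complex.normSq_eq_norm_sq, ← Complex.normSq_eq_norm_sq, Complex.normSq_apply,
      Complex.normSq_apply, Complex.sub_re, Complex.sub_im, Complex.one_re, Complex.one_im]
    ring
  rw [Finset.sum_congr rfl fun g _ => e g, Finset.sum_add_distrib, total_norm,
    Finset.sum_sub_distrib, ← Finset.mul_sum, hre, Finset.sum_const, Finset.card_univ,
    ← Nat.card_eq_fintype_card, nsmul_eq_mul]
  ring

omit [Group G] in
/-- The sum over all elements is at least the parts coming from disjoint conditions. -/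
theorem sum_pieces_le {ι : Type*} (s : Finset ι) (P : ι → Finset G)
    (hP : ∀ i ∈ s, ∀ j ∈ s, i ≠ j → Disjoint (P i) (P j)) (f : G → ℝ) (hf : ∀ g, 0 ≤ f g) :
    ∑ i ∈ s, ∑ g ∈ P i, f g ≤ ∑ g, f g := by
  classical
  rw [← Finset.sum_biUnion hP]
  exact Finset.sum_le_univ_sum_of_nonneg hf

omit [Fintype G] in
theorem norm_add_conj (χ : IrrCharacter G) (s : ℂ) (g h : G) :
    ‖(χ : G → ℂ) (h * g * h⁻¹) + s‖ ^ 2 = ‖(χ : G → ℂ) g + s‖ ^ 2 := by
  rw [CharCore.irr_isClassFunction χ g h]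

/-- A lower bound for the part of the sum coming from the elements of order `q`. -/
theorem part_lower {q : ℕ} [Fact q.Prime] (hq : ¬ q ^ 2 ∣ Nat.card G) (χ : IrrCharacter G)
    (s : ℤ) {z g : G} (hz : orderOf z = q) (hconj : g * z * g⁻¹ = z ^ 2) (L : ℕ)
    (hL : ∀ m : ZMod q → ℤ, (∀ i, m (2 * i) = m i) →
      ∑ i, m i = (charDegree (χ : G → ℂ) : ℤ) + s →
      (L : ℤ) ≤ (q : ℤ) * ∑ i, m i ^ 2 - (∑ i, m i) ^ 2)
    {n0 : ℕ} (hn : n0 ≤ Nat.card (Sylow q G)) :
    ((n0 * L : ℕ) : ℝ) ≤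
      ∑ a ∈ Finset.univ.filter (fun a : G => orderOf a = q), ‖(χ : G → ℂ) a + s‖ ^ 2 := by
  classical
  obtain ⟨m, hm⟩ := exists_mult χ.2 s hz
  have hinv : ∀ i, m (2 * i) = m i := fun i => by
    simpa using mult_inv (CharCore.irr_isClassFunction χ) m s hz hm hconj i
  have hsum : ∑ i, m i = (charDegree (χ : G → ℂ) : ℤ) + s := by
    have h := hm 0
    rw [ZMod.val_zero, pow_zero, one_eq_charDegree] at h
    simp [ft] at h
    exact_mod_cast h
  rw [sum_order_eq hq (fun a => ‖(χ : G → ℂ) a + s‖ ^ 2) (norm_add_conj χ s) hz,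
    energy_eq m s hm, Nat.cast_mul]
  have hLR : (L : ℝ) ≤ (q : ℝ) * ∑ i, (m i : ℝ) ^ 2 - ((∑ i, m i : ℤ) : ℝ) ^ 2 := by
    exact_mod_cast hL m hinv hsum
  refine mul_le_mul (Nat.cast_le.2 hn) hLR (Nat.cast_nonneg L) (Nat.cast_nonneg _)

/-- An involution of `M₂₄` fixes 8 points or none. -/
theorem card_fixedPts_involution {c : Equiv.Perm GolayPt} (hc : c ∈ Cfsg.M24)
    (ho : orderOf c = 2) : (fixedPts c).card = 8 ∨ (fixedPts c).card = 0 := by
  obtain ⟨k, -, r, hr⟩ := exists_rep_involution hc ho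
  obtain ⟨-, -, h8, h0, -⟩ := invol_facts
  simp only [Bool.and_eq_true, beq_iff_eq, decide_eq_true_eq] at h8 h0
  rcases hr with ⟨t, rfl⟩ | ⟨t, rfl⟩
  · left; rw [card_fixedPts_conj, t.card_fixedPts, h8.2]
  · right; rw [card_fixedPts_conj, t.card_fixedPts, h0.2]

end Cfsg.Agent.TwoBlocks
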