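import Cfsg.Agent.TwoBlocks.DegreeM22

/-!
The quadratic forms of multiplicities for the primes 11 and 23, and the bounds needed for
`M₂₄`.
-/

set_option autoImplicit false

namespace Cfsg.Agent.TwoBlocks

local instance : Fact (Nat.Prime 11) := ⟨by norm_num⟩
local instance : Fact (Nat.Prime 23) := ⟨by norm_num⟩
local instance : Fact (Nat.Prime 5) := ⟨by norm_num⟩
local instance : Fact (Nat.Prime 7) := ⟨by norm_num⟩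

theorem pow_two_inv {q : ℕ} (m : ZMod q → ℤ) (hm : ∀ i, m (2 * i) = m i) (c : ZMod q) :
    ∀ n : ℕ, m (c * 2 ^ n) = m c
  | 0 => by rw [pow_zero, mul_one]
  | n + 1 => by rw [pow_succ, ← mul_assoc, mul_comm _ 2, hm, pow_two_inv m hm c n]

theorem eleven_form (m : ZMod 11 → ℤ) (hm : ∀ i, m (2 * i) = m i) :
    ∃ a : ℤ, 11 * ∑ i, m i ^ 2 - (∑ i, m i) ^ 2 = 10 * a ^ 2 ∧ ∑ i, m i = 11 * m 1 + a := by
  have key : ∀ i : ZMod 11, i ≠ 0 → ∃ n : Fin 10, i = 1 * 2 ^ n.val := by decide +kernel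
  obtain ⟨e1, e2⟩ := energy_one m fun i hi => by
    obtain ⟨n, rfl⟩ := key i hi
    exact pow_two_inv m hm 1 n.val
  exact ⟨m 0 - m 1, by push_cast at e1; linarith, by push_cast at e2; linarith⟩

theorem twentythree_form (m : ZMod 23 → ℤ) (hm : ∀ i, m (2 * i) = m i) :
    ∃ u v m0 : ℤ, 2 ∣ u - v ∧
      2 * (23 * ∑ i, m i ^ 2 - (∑ i, m i) ^ 2) = 11 * (u ^ 2 + 23 * v ^ 2) ∧
      ∑ i, m i = 23 * m0 - 11 * u := by
  let S : Finset (ZMod 23) := Finset.univ.image fun n : Fin 11 => 1 * 2 ^ n.val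
  have key : ∀ i : ZMod 23, i ∉ S → i ≠ 0 → ∃ n : Fin 11, i = 22 * 2 ^ n.val := by decide +kernel
  obtain ⟨e1, e2⟩ := energy_two m S 11 (by norm_num) (by decide +kernel) (by decide +kernel)
    (A := m 1) (B := m 22)
    (fun i hi => by
      obtain ⟨n, -, rfl⟩ := Finset.mem_image.1 hi
      exact pow_two_inv m hm 1 n.val)
    (fun i hi h0 => by
      obtain ⟨n, rfl⟩ := key i hi h0
      exact pow_two_inv m hm 22 n.val)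
  exact ⟨2 * m 0 - m 1 - m 22, m 1 - m 22, m 0, ⟨m 0 - m 1, by ring⟩,
    by push_cast at e1; linarith, by push_cast at e2; linarith⟩

theorem eleven_bound (m : ZMod 11 → ℤ) (hm : ∀ i, m (2 * i) = m i) {L : ℤ}
    (hd : (∑ i, m i = 1024 ∧ L = 10) ∨ (∑ i, m i = 3072 ∧ L = 90) ∨
      (∑ i, m i = 5120 ∧ L = 250) ∨ (∑ i, m i = 7168 ∧ L = 160) ∨
      (∑ i, m i = 15360 ∧ L = 160)) :
    L ≤ 11 * ∑ i, m i ^ 2 - (∑ i, m i) ^ 2 := by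
  obtain ⟨a, h1, h2⟩ := eleven_form m hm
  rcases hd with ⟨hs, rfl⟩ | ⟨hs, rfl⟩ | ⟨hs, rfl⟩ | ⟨hs, rfl⟩ | ⟨hs, rfl⟩
  · have : a ≤ -1 ∨ 1 ≤ a := by omega
    rcases this with h | h <;> nlinarith
  · have : a ≤ -3 ∨ 3 ≤ a := by omega
    rcases this with h | h <;> nlinarith
  · have : a ≤ -5 ∨ 5 ≤ a := by omega
    rcases this with h | h <;> nlinarith
  · have : a ≤ -4 ∨ 4 ≤ a := by omega
    rcases this with h | h <;> nlinarith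
  · have : a ≤ -4 ∨ 4 ≤ a := by omega
    rcases this with h | h <;> nlinarith

theorem twentythree_bound (m : ZMod 23 → ℤ) (hm : ∀ i, m (2 * i) = m i) {L : ℤ}
    (hd : (∑ i, m i = 1024 ∧ L = 132) ∨ (∑ i, m i = 3072 ∧ L = 176) ∨
      (∑ i, m i = 9216 ∧ L = 572) ∨ (∑ i, m i = 11264 ∧ L = 792)) :
    L ≤ 23 * ∑ i, m i ^ 2 - (∑ i, m i) ^ 2 := by
  obtain ⟨u, v, m0, ⟨w, hw⟩, h1, h2⟩ := twentythree_form m hm
  rcases hd with ⟨hs, rfl⟩ | ⟨hs, rfl⟩ | ⟨hs, rfl⟩ | ⟨hs, rfl⟩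
  · have : u ≤ -5 ∨ 5 ≤ u ∨ (u = 1 ∧ (v ≤ -1 ∨ 1 ≤ v)) := by omega
    rcases this with h | h | ⟨rfl, h | h⟩ <;> nlinarith
  · have : u ≤ -6 ∨ 6 ≤ u ∨ (u = 3 ∧ (v ≤ -1 ∨ 1 ≤ v)) := by omega
    rcases this with h | h | ⟨rfl, h | h⟩ <;> nlinarith
  · have : u ≤ -11 ∨ 11 ≤ u ∨ (u = 9 ∧ (v ≤ -1 ∨ 1 ≤ v)) := by omega
    rcases this with h | h | ⟨rfl, h | h⟩ <;> nlinarith
  · have : u ≤ -12 ∨ 12 ≤ u ∨ (u = 11 ∧ (v ≤ -1 ∨ 1 ≤ v)) := by omega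
    rcases this with h | h | ⟨rfl, h | h⟩ <;> nlinarith

theorem five_bound_1024 (m : ZMod 5 → ℤ) (hm : ∀ i, m (2 * i) = m i)
    (hd : ∑ i, m i = 1024) :
    (4 : ℤ) ≤ 5 * ∑ i, m i ^ 2 - (∑ i, m i) ^ 2 ∧
      ((9 : ℤ) ∣ 5 * ∑ i, m i ^ 2 - (∑ i, m i) ^ 2 →
        (36 : ℤ) ≤ 5 * ∑ i, m i ^ 2 - (∑ i, m i) ^ 2) := by
  obtain ⟨a, h1, h2⟩ := five_form m hm
  constructor
  · have : a ≤ -1 ∨ 1 ≤ a := by omega
    rcases this with h | h <;> nlinarith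
  · intro h9
    rw [h1] at h9 ⊢
    have h3 : (3 : ℤ) ∣ a :=
      (Int.prime_three.dvd_of_dvd_pow (n := 2) ((Int.prime_three.dvd_or_dvd
        ((dvd_trans ⟨3, by norm_num⟩ h9 : (3 : ℤ) ∣ 4 * a ^ 2))).resolve_left (by norm_num)))
    have : a ≤ -3 ∨ 3 ≤ a := by omega
    rcases this with h | h <;> nlinarith

theorem seven_bound_1024 (m : ZMod 7 → ℤ) (hm : ∀ i, m (2 * i) = m i)
    (hd : ∑ i, m i = 1024) :
    (24 : ℤ) ≤ 7 * ∑ i, m i ^ 2 - (∑ i, m i) ^ 2 ∧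
      ((9 : ℤ) ∣ 7 * ∑ i, m i ^ 2 - (∑ i, m i) ^ 2 →
        (108 : ℤ) ≤ 7 * ∑ i, m i ^ 2 - (∑ i, m i) ^ 2) := by
  obtain ⟨u, v, m0, ⟨w, hw⟩, h1, h2⟩ := seven_form m hm
  constructor
  · have : u ≤ -4 ∨ 4 ≤ u ∨ (u = -3 ∧ (v ≤ -1 ∨ 1 ≤ v)) := by omega
    rcases this with h | h | ⟨rfl, h | h⟩ <;> nlinarith
  · rintro ⟨k, hk⟩
    have h3 : ((u : ZMod 3)) ^ 2 + 7 * ((v : ZMod 3)) ^ 2 = 0 := by
      have h4 : u ^ 2 + 7 * v ^ 2 = 3 * (2 * k) := by linarith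
      have h5 := congrArg (fun z : ℤ => (z : ZMod 3)) h4
      push_cast at h5
      rw [h5]
      have : (3 : ZMod 3) = 0 := rfl
      rw [this, zero_mul]
    have key : ∀ a b : ZMod 3, a ^ 2 + 7 * b ^ 2 = 0 → a = 0 ∧ b = 0 := by decide
    obtain ⟨hu, hv⟩ := key _ _ h3
    rw [ZMod.intCast_zmod_eq_zero_iff_dvd] at hu hv
    have : u ≤ -10 ∨ 10 ≤ u ∨ (u = -3 ∧ (v ≤ -3 ∨ 3 ≤ v)) := by omega
    rcases this with h | h | ⟨rfl, h | h⟩ <;> nlinarith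

end Cfsg.Agent.TwoBlocks
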